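import Cfsg.Agent.Omega.NOThreeL.RBig.Pts

/-!
# NO-3L, box R, case (A), `q > 2`, `k = 1` (#19087, helper162): the abstract part of (6) (Q)

`Frame X Pt VV` in the case of ONE AXIS, `Out Pt VV e` : the outputs of (3)(c) and (5).
`B ≤ X` acts quadratically on `M`, fixes `e` pointwise and is normalised by `VV t` for all `t ~ e`.

* `Out.reg` : `VV p` is regular on `u + p` for every `u` outside its axis;
* `Quad.fix` : `B` fixes all `p ~ e`; `Quad.comm` : `B` commutes with `VV p`, `p ~ e`, `p ≠ e`; `Quad.triv`;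
* **`Quad.main`** : every `b ∈ B` acts on `M` as an element of `VV e`.
-/

set_option autoImplicit false
set_option linter.unusedSectionVars false

namespace Cfsg.Agent.Omega.NOThreeL.RBig.Pts

open Subgroup
open scoped Pointwise

variable {Γ M : Type*} [Group Γ] [AddCommGroup M] [DistribMulAction Γ M]

/-- the outputs of (3)(c) and (5), for the point `e` -/
structure Out (Pt : Set (AddSubgroup M)) (VV : AddSubgroup M → Subgroup Γ) (e : AddSubgroup M) : Prop where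
  symm : ∀ p ∈ Pt, ∀ r ∈ Pt, Mv VV p r → Mv VV r p
  oneAx : ∀ p ∈ Pt, ∀ r ∈ Pt, Mv VV p r → ∀ v ∈ VV p, (∀ x ∈ r, v • x = x) → v = 1
  twins : ∀ p ∈ Pt, ∀ r ∈ Pt, (∀ s ∈ Pt, Mv VV s p ↔ Mv VV s r) → p = r
  disj : ∀ p ∈ Pt, ∀ r ∈ Pt, p ≠ r → p ⊓ r = ⊥
  ax : ∀ m : M, (∀ v ∈ VV e, v • m = m) → m ∈ sSup {t | t ∈ Pt ∧ ¬ Mv VV t e}
  inter : ∀ m : M, (∀ t ∈ Pt, ¬ Mv VV t e → ∀ v ∈ VV t, v • m = m) → m ∈ e

/-- The axis of `VV p`. -/
def Yx (VV : AddSubgroup M → Subgroup Γ) (p : AddSubgroup M) : AddSubgroup M where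
  carrier := {m | ∀ v ∈ VV p, v • m = m}
  add_mem' := fun {x y} hx hy v hv => by rw [smul_add, hx v hv, hy v hv]
  zero_mem' := fun v _ => smul_zero v
  neg_mem' := fun {x} hx v hv => by rw [smul_neg, hx v hv]

variable {X B : Subgroup Γ} {Pt : Set (AddSubgroup M)} {VV : AddSubgroup M → Subgroup Γ} {p r s t e : AddSubgroup M}

theorem mem_Yx {m : M} : m ∈ Yx VV p ↔ ∀ v ∈ VV p, v • m = m := Iff.rfl

theorem not_mv_iff : ¬ Mv VV p r ↔ r ≤ Yx VV p := by
  constructor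
  · exact fun h x hx v hv => not_mv h hv hx
  · rintro h ⟨v, hv, x, hx, hne⟩
    exact hne (h hx v hv)

/-- a 2-element has a fixed point -/
theorem exists_fix (two : ∀ m : M, m + m = 0) {W : AddSubgroup M} (hW : W ≠ ⊥) (n : ℕ) :
    ∀ g : Γ, (∀ x ∈ W, g • x ∈ W) → (∀ x ∈ W, (g ^ 2 ^ n) • x = x) → ∃ x ∈ W, x ≠ 0 ∧ g • x = x := by
  induction n with
  | zero =>
    intro g _ h
    obtain ⟨x, hx, hx0⟩ := (AddSubgroup.bot_or_exists_ne_zero W).resolve_left hW
    exact ⟨x, hx, hx0, by simpa using h x hx⟩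
  | succ n ih =>
    intro g hg h
    obtain ⟨x, hx, hx0, h1⟩ := ih (g ^ 2) (fun x hx => by rw [pow_two, mul_smul]; exact hg _ (hg _ hx)) (fun x hx => by
      rw [← pow_mul, ← pow_succ']; exact h x hx)
    by_cases h2 : g • x = x
    · exact ⟨x, hx, hx0, h2⟩
    · refine ⟨g • x + x, add_mem (hg x hx) hx, fun h3 => h2 ?_, ?_⟩
      · have h4 := eq_neg_of_add_eq_zero_left h3
        rw [h4]
        exact neg_eq_of_add_eq_zero_left (two x)
      · rw [smul_add, ← mul_smul, ← pow_two, h1, add_comm]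

namespace Frame

variable (F : Frame X Pt VV)
include F

theorem not_mv_self (hp : p ∈ Pt) : ¬ Mv VV p p := by
  rintro ⟨v, hv, x, hx, hne⟩
  exact hne (F.triv p hp v hv x hx)

theorem Yx_smul {g : Γ} (hg : g ∈ X) (hp : p ∈ Pt) {m : M} : m ∈ Yx VV (g • p) ↔ g⁻¹ • m ∈ Yx VV p := by
  constructor
  · intro h v hv
    have h1 := h _ (F.conj g hg p hp v hv)
    rw [mul_smul, mul_smul, smul_eq_iff_eq_inv_smul] at h1
    exact h1
  · intro h v hv
    have h2 : g⁻¹ * v * g ∈ VV p := (F.conj_iff hg hp).1 (by convert hv using 1; group)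
    have h3 := h _ h2
    rw [mul_smul, mul_smul, smul_inv_smul] at h3
    exact smul_left_cancel _ h3

theorem cardYx [Finite M] (hp : p ∈ Pt) (hr : r ∈ Pt) : Nat.card ↥(Yx VV p) = Nat.card ↥(Yx VV r) := by
  obtain ⟨g, hg, rfl⟩ := F.trans p hp r hr
  have hgX := F.mem_X hg
  have h1 : Yx VV (g • p) = g • Yx VV p := by
    ext m
    rw [F.Yx_smul hgX hp, mem_smul_iff]
    constructor
    · intro h
      exact ⟨_, h, smul_inv_smul g m⟩
    · rintro ⟨x, hx, rfl⟩
      rwa [inv_smul_smul]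
  rw [h1, card_smul]

theorem Yx_eq [Finite M] (hp : p ∈ Pt) (hr : r ∈ Pt) (h : Yx VV p ≤ Yx VV r) : Yx VV p = Yx VV r :=
  AddSubgroup.eq_of_le_of_card_ge h (F.cardYx hr hp).le

end Frame

namespace Out

variable (O : Out Pt VV e) (F : Frame X Pt VV)
include O F

theorem eq_of_Yx (hp : p ∈ Pt) (hr : r ∈ Pt) (h : Yx VV p = Yx VV r) : p = r := by
  refine O.twins p hp r hr fun s hs => ?_
  have h1 : ∀ q ∈ Pt, (Mv VV s q ↔ ¬ s ≤ Yx VV q) := fun q hq => by
    rw [← not_mv_iff, not_not]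
    exact ⟨O.symm s hs q hq, O.symm q hq s hs⟩
  rw [h1 p hp, h1 r hr, h]

/-- an element of `VV p` which fixes a nonzero vector of `r`, `p # r`, is trivial -/
theorem eq_one (hp : p ∈ Pt) (hr : r ∈ Pt) (h : Mv VV p r) {v : Γ} (hv : v ∈ VV p) {x : M} (hx : x ∈ r)
    (hx0 : x ≠ 0) (h1 : v • x = x) : v = 1 := by
  rcases F.bij p hp r hr (O.symm p hp r hr h) v hv with h2 | h2
  · exact O.oneAx p hp r hr h v hv h2
  · exact absurd (h2 x hx h1) hx0

/-- **`VV p` is regular on `u + p`** -/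
theorem reg (hp : p ∈ Pt) {u : M} (hu : u ∉ Yx VV p) :
    (∀ y ∈ p, ∃ v ∈ VV p, v • u = u + y) ∧ ∀ v ∈ VV p, v • u = u → v = 1 := by
  obtain ⟨r, hr, h1⟩ := F.exists_mv hp
  obtain ⟨A, hA, ⟨a, ha, x, hx, hne⟩, h2⟩ := F.line p hp r hr h1
  have hx0 : x ≠ 0 := by
    rintro rfl
    exact hne (smul_zero a)
  have hAV : VV p ≤ A := by
    intro v hv
    obtain ⟨a', ha', h3⟩ := ((h2 x).resolve_left fun h => hne (h a ha)).1 _ (F.dd_mem hp hv x)
    rw [← F.smul_eq v x] at h3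
    have h4 : v⁻¹ * a' = 1 := by
      refine O.eq_one F hp hr h1 (mul_mem (inv_mem hv) (hA ha')) hx hx0 ?_
      rw [mul_smul, h3, inv_smul_smul]
    rw [inv_mul_eq_one] at h4
    rw [h4]
    exact ha'
  rcases h2 u with h3 | h3
  · exact absurd (fun v hv => h3 v (hAV hv)) hu
  · exact ⟨fun y hy => (h3.1 y hy).imp fun a h => ⟨hA h.1, h.2⟩, fun v hv h => h3.2 v (hAV hv) h⟩

/-- for `p ≠ e` some `r ~ e` is moved by `VV p` -/
theorem exists_sep [Finite M] (he : e ∈ Pt) (hp : p ∈ Pt) (hne : p ≠ e) :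
    ∃ r ∈ Pt, ¬ Mv VV r e ∧ Mv VV p r := by
  by_contra hcon
  push Not at hcon
  have h1 : Yx VV e ≤ Yx VV p := by
    intro m hm
    have h2 : sSup {t | t ∈ Pt ∧ ¬ Mv VV t e} ≤ Yx VV p :=
      sSup_le fun t ht => not_mv_iff.1 (hcon t ht.1 ht.2)
    exact h2 (O.ax m hm)
  exact hne (O.eq_of_Yx F hp he (F.Yx_eq he hp h1).symm)

end Out

/-- the hypotheses on `B` -/
structure Quad (X : Subgroup Γ) (Pt : Set (AddSubgroup M)) (VV : AddSubgroup M → Subgroup Γ) (e : AddSubgroup M)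
    (B : Subgroup Γ) : Prop where
  le : B ≤ X
  quad : ∀ b ∈ B, ∀ b' ∈ B, ∀ m : M, b • (b' • m + m) = b' • m + m
  norm : ∀ t ∈ Pt, ¬ Mv VV t e → ∀ a ∈ VV t, ∀ b ∈ B, a * b * a⁻¹ ∈ B
  fixe : ∀ b ∈ B, ∀ x ∈ e, b • x = x

namespace Quad

variable (Q : Quad X Pt VV e B) (O : Out Pt VV e) (F : Frame X Pt VV)
include Q F

omit [DistribMulAction Γ M] Q F in
theorem add_cancel' (two : ∀ m : M, m + m = 0) (x y : M) : x + (x + y) = y := by rw [← add_assoc, two, zero_add]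

theorem sq {b : Γ} (hb : b ∈ B) (m : M) : b • b • m = m := by
  have h := Q.quad b hb b hb m
  rw [smul_add, add_comm (b • m) m] at h
  exact add_right_cancel h

theorem smul_mem {b : Γ} (hb : b ∈ B) (hp : p ∈ Pt) : b • p ∈ Pt := F.inv b (Q.le hb) p hp

theorem bb {b : Γ} (hb : b ∈ B) : b • b • p = p := by
  ext x
  rw [mem_smul_iff]
  constructor
  · rintro ⟨y, hy, rfl⟩
    obtain ⟨z, hz, rfl⟩ := mem_smul_iff.1 hy
    rwa [Q.sq F hb]
  · intro hx
    exact ⟨b • x, mem_smul hx, Q.sq F hb x⟩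

include O in
/-- (6), `p^b # p` is impossible -/
theorem not_mv_b (hp : p ∈ Pt) (hpe : ¬ Mv VV p e) {b : Γ} (hb : b ∈ B) : ¬ Mv VV p (b • p) := by
  intro hmv
  obtain ⟨a, ha, x₀, hx₀, hne⟩ := id hmv
  have hbp := Q.smul_mem F hb hp
  have hd : p ⊓ b • p = ⊥ := O.disj p hp _ hbp fun h => by
    rw [← h] at hmv
    exact F.not_mv_self hp hmv
  have hd0 : ∀ x ∈ p, x ∈ b • p → x = 0 := fun x hx hx' => by
    have h1 : x ∈ p ⊓ b • p := ⟨hx, hx'⟩
    rw [hd] at h1
    exact AddSubgroup.mem_bot.1 h1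
  have ha1 : a ≠ 1 := by
    rintro rfl
    exact hne (one_smul _ _)
  have hW : p ⊔ b • p ≠ ⊥ := fun h => F.ne p hp (le_bot_iff.1 (le_sup_left.trans h.le))
  have hbW : ∀ x ∈ p ⊔ b • p, b • x ∈ p ⊔ b • p := by
    intro x hx
    obtain ⟨y, hy, z, hz, rfl⟩ := AddSubgroup.mem_sup.1 hx
    rw [smul_add]
    refine add_mem ((le_sup_right : b • p ≤ _) (mem_smul hy)) ((le_sup_left : p ≤ _) ?_)
    have h1 : b • z ∈ b • b • p := mem_smul hz
    rwa [Q.bb F hb] at h1
  have haW : ∀ x ∈ p ⊔ b • p, a • x ∈ p ⊔ b • p := by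
    intro x hx
    rw [F.smul_eq a x]
    exact add_mem hx ((le_sup_left : p ≤ _) (F.dd_mem hp ha x))
  obtain ⟨w, hw, hw0, hfix⟩ := exists_fix F.two hW 2 (a * b) (fun x hx => by
    rw [mul_smul]; exact haW _ (hbW _ hx)) (fun x _ => by
      -- `(ab)^2 ∈ B`
      have h1 : (a * b) * (a * b) ∈ B := by
        have h2 := mul_mem (Q.norm p hp hpe a ha b hb) hb
        have h3 : a * b * a⁻¹ * b = (a * b) * (a * b) := by rw [F.inv_eq hp ha]; group
        rwa [h3] at h2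
      have h2 := Q.sq F h1 x
      rw [← mul_smul, ← pow_two, ← pow_two, ← pow_mul] at h2
      exact h2)
  obtain ⟨x, hx, y, hy, rfl⟩ := AddSubgroup.mem_sup.1 hw
  have hbx : b • x ∈ b • p := mem_smul hx
  have hby : b • y ∈ p := by
    have h1 : b • y ∈ b • b • p := mem_smul hy
    rwa [Q.bb F hb] at h1
  have h1 : b • x + dd a (b • x) + b • y = x + y := by
    rw [← hfix, mul_smul, smul_add, smul_add, F.triv p hp a ha _ hby, F.smul_eq a (b • x)]
  have hdd := F.dd_mem hp ha (b • x)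
  have h2 : b • x - y = 0 := by
    refine hd0 _ ?_ (sub_mem hbx hy)
    have h3 : b • x - y = x - dd a (b • x) - b • y := by
      calc b • x - y = (b • x + dd a (b • x) + b • y) - dd a (b • x) - b • y - y := by abel
        _ = x + y - dd a (b • x) - b • y - y := by rw [h1]
        _ = x - dd a (b • x) - b • y := by abel
    rw [h3]
    exact sub_mem (sub_mem hx hdd) hby
  have h3 : b • x = y := sub_eq_zero.1 h2
  have h4 : b • y = x := by rw [← h3, Q.sq F hb]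
  have h5 : dd a (b • x) = 0 := by
    calc dd a (b • x) = (b • x + dd a (b • x) + b • y) - b • x - b • y := by abel
      _ = x + y - b • x - b • y := by rw [h1]
      _ = 0 := by rw [h3, h4]; abel
  rw [F.dd_eq_zero_iff] at h5
  by_cases h6 : b • x = 0
  · have h7 : x = 0 := by rw [← Q.sq F hb x, h6, smul_zero]
    apply hw0
    rw [← h3, h6, h7, add_zero]
  · exact ha1 (O.eq_one F hp hbp hmv ha hbx h6 h5)

include O in
/-- (6) : `B` fixes every `p ~ e` -/
theorem fix (hp : p ∈ Pt) (hpe : ¬ Mv VV p e) {b : Γ} (hb : b ∈ B) : b • p = p := by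
  by_contra hne
  have hbp := Q.smul_mem F hb hp
  have hd : p ⊓ b • p = ⊥ := O.disj p hp _ hbp (Ne.symm hne)
  have hnm := Q.not_mv_b O F hp hpe hb
  -- `dd a (b⁻¹ m) = dd a m`
  have key : ∀ a ∈ VV p, ∀ m : M, dd a (b⁻¹ • m) = dd a m := by
    intro a ha m
    have hbb : b • b • (dd a (b⁻¹ • m)) = dd a (b⁻¹ • m) := Q.sq F hb _
    have hc : a * b * a⁻¹ * b⁻¹ ∈ B := mul_mem (Q.norm p hp hpe a ha b hb) (inv_mem hb)
    have h1 : (a * b * a⁻¹ * b⁻¹) • m + m = dd a m + b • dd a (b⁻¹ • m) := by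
      rw [F.inv_eq hp ha, mul_smul, mul_smul, mul_smul, F.smul_eq a (b⁻¹ • m), smul_add, smul_inv_smul, smul_add,
        F.smul_eq a m, not_mv hnm ha (mem_smul (F.dd_mem hp ha (b⁻¹ • m)))]
      calc m + dd a m + b • dd a (b⁻¹ • m) + m = (m + m) + (dd a m + b • dd a (b⁻¹ • m)) := by abel
        _ = dd a m + b • dd a (b⁻¹ • m) := by rw [F.two, zero_add]
    have h2 := Q.quad b hb _ hc m
    rw [h1, smul_add, hbb] at h2
    have h3 : dd a m + dd a (b⁻¹ • m) ∈ p ⊓ b • p := by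
      refine AddSubgroup.mem_inf.2 ⟨add_mem (F.dd_mem hp ha _) (F.dd_mem hp ha _), mem_smul_iff.2
        ⟨dd a m + dd a (b⁻¹ • m), add_mem (F.dd_mem hp ha _) (F.dd_mem hp ha _), ?_⟩⟩
      rw [smul_add]
      calc b • dd a m + b • dd a (b⁻¹ • m)
          = (b • dd a m + dd a (b⁻¹ • m)) + (b • dd a (b⁻¹ • m) - dd a (b⁻¹ • m)) := by abel
        _ = dd a m + b • dd a (b⁻¹ • m) + (b • dd a (b⁻¹ • m) - dd a (b⁻¹ • m)) := by rw [h2]
        _ = dd a m + (b • dd a (b⁻¹ • m) + b • dd a (b⁻¹ • m)) - dd a (b⁻¹ • m) := by abel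
        _ = dd a m - dd a (b⁻¹ • m) := by rw [F.two, add_zero]
        _ = dd a m + dd a (b⁻¹ • m) := by
            rw [sub_eq_add_neg, neg_eq_of_add_eq_zero_left (F.two (dd a (b⁻¹ • m)))]
    rw [hd] at h3
    have h4 := eq_neg_of_add_eq_zero_left (AddSubgroup.mem_bot.1 h3)
    rw [h4, neg_eq_of_add_eq_zero_left (F.two (dd a (b⁻¹ • m)))]
  refine hne (O.eq_of_Yx F hbp hp ?_)
  ext m
  rw [F.Yx_smul (Q.le hb) hp]
  refine forall_congr' fun a => forall_congr' fun ha => ?_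
  rw [← F.dd_eq_zero_iff, ← F.dd_eq_zero_iff, key a ha]

include O in
/-- (6) : `B` commutes with `VV p`, `p ~ e`, `p ≠ e` -/
theorem comm [Finite M] (he : e ∈ Pt) (hp : p ∈ Pt) (hpe : ¬ Mv VV p e) (hne : p ≠ e) {a b : Γ} (ha : a ∈ VV p)
    (hb : b ∈ B) : a * b = b * a := by
  obtain ⟨r, hr, hre, hmv⟩ := O.exists_sep F he hp hne
  have hc : a * b * a⁻¹ * b⁻¹ ∈ B := mul_mem (Q.norm p hp hpe a ha b hb) (inv_mem hb)
  have hc' : a * b * a⁻¹ * b⁻¹ ∈ VV p := by
    have h1 := F.conj b (Q.le hb) p hp a⁻¹ (inv_mem ha)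
    rw [Q.fix O F hp hpe hb] at h1
    have h2 := mul_mem ha h1
    have e1 : a * (b * a⁻¹ * b⁻¹) = a * b * a⁻¹ * b⁻¹ := by group
    rwa [e1] at h2
  have hfix := Q.fix O F hr hre hc
  have hd : r ⊓ p = ⊥ := O.disj r hr p hp fun h => by
    rw [h] at hmv
    exact F.not_mv_self hp hmv
  obtain ⟨x, hx, hx0⟩ := (AddSubgroup.bot_or_exists_ne_zero r).resolve_left (F.ne r hr)
  have h1 : (a * b * a⁻¹ * b⁻¹) • x = x := by
    rw [← F.dd_eq_zero_iff]
    have h2 : dd (a * b * a⁻¹ * b⁻¹) x ∈ r ⊓ p := by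
      refine AddSubgroup.mem_inf.2 ⟨?_, F.dd_mem hp hc' x⟩
      rw [dd_apply]
      refine add_mem ?_ hx
      have h3 : (a * b * a⁻¹ * b⁻¹) • x ∈ (a * b * a⁻¹ * b⁻¹) • r := mem_smul hx
      rwa [hfix] at h3
    rw [hd] at h2
    exact AddSubgroup.mem_bot.1 h2
  have h2 := O.eq_one F hp hr hmv hc' hx hx0 h1
  rw [mul_inv_eq_one, mul_inv_eq_iff_eq_mul] at h2
  exact h2

include O in
/-- (6) : `B` centralises `p`, `p ~ e` -/
theorem triv [Finite M] (he : e ∈ Pt) (hp : p ∈ Pt) (hpe : ¬ Mv VV p e) {b : Γ} (hb : b ∈ B) {x : M} (hx : x ∈ p) :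
    b • x = x := by
  by_cases hne : p = e
  · exact Q.fixe b hb x (hne ▸ hx)
  obtain ⟨r, hr, hre, hmv⟩ := O.exists_sep F he hp hne
  have hrne : r ≠ e := by
    rintro rfl
    exact hpe hmv
  -- `b` fixes a nonzero vector `y` of `p`
  have h0 : ∃ y ∈ p, y ≠ 0 ∧ b • y = y := by
    obtain ⟨y, hy, hy0⟩ := (AddSubgroup.bot_or_exists_ne_zero p).resolve_left (F.ne p hp)
    by_cases h1 : b • y = y
    · exact ⟨y, hy, hy0, h1⟩
    · refine ⟨b • y + y, add_mem ?_ hy, fun h2 => h1 ?_, Q.quad b hb b hb y⟩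
      · have h2 : b • y ∈ b • p := mem_smul hy
        rwa [Q.fix O F hp hpe hb] at h2
      · have h3 := eq_neg_of_add_eq_zero_left h2
        rwa [neg_eq_of_add_eq_zero_left (F.two y)] at h3
  obtain ⟨y, hy, hy0, hby⟩ := h0
  -- `c ∈ VV r` moves `p`; `u := dd c y ∈ r` is fixed by `b` and outside of the axis of `p`
  have hrp := O.symm p hp r hr hmv
  obtain ⟨c, hc, y', hy', hne'⟩ := id hrp
  have hu : dd c y ∈ r := F.dd_mem hr hc y
  have hu0 : dd c y ≠ 0 := by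
    intro h
    rw [F.dd_eq_zero_iff] at h
    have h1 := O.eq_one F hr hp hrp hc hy hy0 h
    rw [h1, one_smul] at hne'
    exact hne' rfl
  have hcomm : ∀ {q : AddSubgroup M} {a : Γ}, q ∈ Pt → ¬ Mv VV q e → q ≠ e → a ∈ VV q →
      ∀ m : M, b • dd a m = dd a (b • m) := by
    intro q a hq hqe hqne ha m
    rw [dd_apply, dd_apply, smul_add, ← mul_smul, ← mul_smul, Q.comm O F he hq hqe hqne ha hb]
  have hbu : b • dd c y = dd c y := by rw [hcomm hr hre hrne hc, hby]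
  have hux : dd c y ∉ Yx VV p := by
    intro h
    obtain ⟨a, ha, y'', hy'', hne''⟩ := id hmv
    have h1 := O.eq_one F hp hr hmv ha hu hu0 (h a ha)
    rw [h1, one_smul] at hne''
    exact hne'' rfl
  obtain ⟨a, ha, h1⟩ := (O.reg F hp hux).1 x hx
  have h2 : dd a (dd c y) = x := by
    rw [dd_apply, h1, add_comm (dd c y) x, add_assoc, F.two, add_zero]
  rw [← h2, hcomm hp hpe hne ha, hbu]

include O in
/-- **(6) (Q)**: every `b ∈ B` acts on `M` as an element of `VV e` -/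
theorem main [Finite M] (he : e ∈ Pt) {b : Γ} (hb : b ∈ B) : ∃ v ∈ VV e, ∀ m : M, b • m = v • m := by
  -- `B` centralises the axis of `e`
  have hY : ∀ m ∈ Yx VV e, b • m = m := by
    intro m hm
    have h1 : sSup {t | t ∈ Pt ∧ ¬ Mv VV t e} ≤ (dd b : M →+ M).ker := sSup_le fun t ht x hx => by
      rw [AddMonoidHom.mem_ker, F.dd_eq_zero_iff]
      exact Q.triv O F he ht.1 ht.2 hb hx
    exact (F.dd_eq_zero_iff b m).1 (h1 (O.ax m hm))
  -- `[M, b] ≤` the axis of every `t ~ e`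
  have hin : ∀ m : M, dd b m ∈ e := by
    intro m
    refine O.inter _ fun t ht hte v hv => ?_
    rw [← F.dd_eq_zero_iff]
    by_cases hne : t = e
    · subst hne
      -- `u` outside of the axis with `b u + u` in the axis
      have h0 : ∃ u : M, u ∉ Yx VV t ∧ dd b u ∈ Yx VV t := by
        obtain ⟨r, hr, v', hv', x, hx, hne⟩ := F.exists_mv ht
        have hx' : x ∉ Yx VV t := fun h => hne (h v' hv')
        by_cases h1 : dd b x ∈ Yx VV t
        · exact ⟨x, hx', h1⟩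
        · refine ⟨dd b x, h1, ?_⟩
          have h2 : dd b (dd b x) = 0 := by
            rw [F.dd_eq_zero_iff, dd_apply]
            exact Q.quad b hb b hb x
          rw [h2]
          exact zero_mem _
      obtain ⟨u, hu, hbu⟩ := h0
      -- `b v b⁻¹ = v`
      have h1 : b * v * b⁻¹ ∈ VV t := by
        have h2 := F.conj b (Q.le hb) t ht v hv
        rwa [Q.fix O F ht hte hb] at h2
      have hbi : ∀ m : M, b⁻¹ • m = b • m := fun m => by
        rw [inv_smul_eq_iff, Q.sq F hb]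
      have h2 : ∀ m : M, (b * v * b⁻¹) • m = m + dd v (b • m) := by
        intro m
        rw [mul_smul, mul_smul, hbi, F.smul_eq v (b • m), smul_add, Q.sq F hb, Q.fixe b hb _ (F.dd_mem ht hv _)]
      have h3 : v⁻¹ * (b * v * b⁻¹) = 1 := by
        refine (O.reg F ht hu).2 _ (mul_mem (inv_mem hv) h1) ?_
        rw [mul_smul, h2, inv_smul_eq_iff, F.smul_eq v u, F.smul_eq b u, map_add, (F.dd_eq_zero_iff v _).2 (hbu v hv),
          add_zero]
      rw [inv_mul_eq_one] at h3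
      have h4 := h2 m
      rw [← h3, F.smul_eq v m] at h4
      have h5 : dd v m = dd v (b • m) := add_left_cancel h4
      rw [dd_apply b m, map_add, ← h5, F.two]
    · have h1 : dd v (b • m) = dd v m := by
        have h2 : b • dd v m = dd v (b • m) := by
          rw [dd_apply, dd_apply, smul_add, ← mul_smul, ← mul_smul, Q.comm O F he ht hte hne hv hb]
        rw [← h2]
        exact Q.triv O F he ht hte hb (F.dd_mem ht hv m)
      rw [dd_apply b m, map_add, h1, F.two]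
  -- a point `r # e`
  obtain ⟨r, hr, hmv⟩ := F.exists_mv he
  have hd : r ⊓ e = ⊥ := O.disj r hr e he fun h => by
    rw [h] at hmv
    exact F.not_mv_self he hmv
  obtain ⟨x, hx, hx0⟩ := (AddSubgroup.bot_or_exists_ne_zero r).resolve_left (F.ne r hr)
  have hxY : ∀ {x : M}, x ∈ r → x ≠ 0 → x ∉ Yx VV e := by
    intro x hx hx0 h
    obtain ⟨a, ha, y, hy, hne⟩ := id hmv
    have h1 := O.eq_one F he hr hmv ha hx hx0 (h a ha)
    rw [h1, one_smul] at hne
    exact hne rfl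
  obtain ⟨v, hv, h1⟩ := (O.reg F he (hxY hx hx0)).1 _ (hin x)
  rw [← F.smul_eq b x] at h1
  -- `b r = v r`
  have hbr : b • r = v • r := by
    by_contra hne
    have h2 := O.disj _ (F.inv b (Q.le hb) r hr) _ (F.inv v (F.le e he hv) r hr) hne
    have h3 : b • x ∈ b • r ⊓ v • r := ⟨mem_smul hx, by rw [← h1]; exact mem_smul hx⟩
    rw [h2] at h3
    refine hx0 ?_
    rw [← Q.sq F hb x, AddSubgroup.mem_bot.1 h3, smul_zero]
  have hr' : ∀ y ∈ r, b • y = v • y := by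
    intro y hy
    have h2 : b • y ∈ v • r := by rw [← hbr]; exact mem_smul hy
    obtain ⟨y', hy', h3⟩ := mem_smul_iff.1 h2
    have h4 : y - y' ∈ r ⊓ e := by
      refine AddSubgroup.mem_inf.2 ⟨sub_mem hy hy', ?_⟩
      rw [F.smul_eq v y', F.smul_eq b y] at h3
      have h5 : y - y' = dd v y' - dd b y := by
        calc y - y' = (y + dd b y) - dd b y - y' := by abel
          _ = (y' + dd v y') - dd b y - y' := by rw [h3]
          _ = dd v y' - dd b y := by abel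
      rw [h5]
      exact sub_mem (F.dd_mem he hv _) (hin y)
    rw [hd] at h4
    rw [← h3, sub_eq_zero.1 (AddSubgroup.mem_bot.1 h4)]
  refine ⟨v, hv, fun m => ?_⟩
  -- `M = Y_e + r`
  obtain ⟨a, ha, y, hy, hne⟩ := id hmv
  have ha1 : a ≠ 1 := by
    rintro rfl
    exact hne (one_smul _ _)
  by_cases hm : m ∈ Yx VV e
  · rw [hY m hm, hm v hv]
  -- `dd a` maps `r` onto `e`
  obtain ⟨y, hy, hym⟩ : ∃ y ∈ r, dd a y = dd a m := by
    have hinj : Function.Injective (fun y : ↥r => (⟨dd a (y : M), F.dd_mem he ha _⟩ : ↥e)) := by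
      intro y y' h
      have h2 : dd a (y : M) = dd a (y' : M) := congrArg Subtype.val h
      by_contra h3
      have h4 : (y : M) - y' ≠ 0 := fun h5 => h3 (Subtype.ext (sub_eq_zero.1 h5))
      refine ha1 (O.eq_one F he hr hmv ha (sub_mem y.2 y'.2) h4 ?_)
      rw [← F.dd_eq_zero_iff, map_sub, h2, sub_self]
    have hbij := hinj.bijective_of_nat_card_le (F.card_eq he hr).le
    obtain ⟨y, hy⟩ := hbij.2 ⟨dd a m, F.dd_mem he ha m⟩
    exact ⟨y, y.2, congrArg Subtype.val hy⟩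
  have h2 : m - y ∈ Yx VV e := by
    by_contra h3
    refine ha1 ((O.reg F he h3).2 a ha ?_)
    rw [← F.dd_eq_zero_iff, map_sub, hym, sub_self]
  have h3 : m = (m - y) + y := by abel
  rw [h3, smul_add, smul_add, hY _ h2, h2 v hv, hr' y hy]

end Quad

end Cfsg.Agent.Omega.NOThreeL.RBig.Pts
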