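import Cfsg.Agent.Omega.NOThreeL.RBig.Sym

/-!
# NO-3L, box R (#19087 (5), helper162): one axis

`OneAx` : if `VV p` moves `r`, then `VV p` acts freely on `r`.  Then (helper162's numbering)

* (a) `one_or_all` : a line `Ln s t` has all or exactly one of its points `~ p`;
* (b) `twins` : a point is determined by the set of points moving it;
* (c) `disjoint` : distinct points are disjoint;
* (d) `exists_conj`, `ax_eq` : `C_M(VV e)` is generated by the points `t ~ e`;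
* (e) `inter` : the intersection of the axes of the points `t ~ e` is `e`.
-/

set_option autoImplicit false

namespace Cfsg.Agent.Omega.NOThreeL.RBig.Pts

open Subgroup
open scoped Pointwise

variable {Γ M : Type*} [Group Γ] [AddCommGroup M] [DistribMulAction Γ M]
variable {X : Subgroup Γ} {Pt : Set (AddSubgroup M)} {VV : AddSubgroup M → Subgroup Γ} {p r s t e x y : AddSubgroup M}

/-- **One axis** : if `VV p` moves `r`, then it acts freely on `r`. -/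
def OneAx (Pt : Set (AddSubgroup M)) (VV : AddSubgroup M → Subgroup Γ) : Prop :=
  ∀ p ∈ Pt, ∀ r ∈ Pt, Mv VV p r → ∀ v ∈ VV p, (∀ x ∈ r, v • x = x) → v = 1

/-- The line through `s` and `t` (`s # t`). -/
def Ln (VV : AddSubgroup M → Subgroup Γ) (s t : AddSubgroup M) : Set (AddSubgroup M) :=
  {x | x = s ∨ ∃ v ∈ VV s, x = v • t}

/-- The axis `C_M(VV e)`. -/
def Ax (VV : AddSubgroup M → Subgroup Γ) (e : AddSubgroup M) : AddSubgroup M where
  carrier := {u | ∀ g ∈ VV e, g • u = u}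
  zero_mem' := fun g _ => smul_zero g
  add_mem' := fun {a b} ha hb g hg => by rw [smul_add, ha g hg, hb g hg]
  neg_mem' := fun {a} ha g hg => by rw [smul_neg, ha g hg]

theorem mem_ax {u : M} : u ∈ Ax VV e ↔ ∀ g ∈ VV e, g • u = u := Iff.rfl

theorem not_mv_iff_fix : ¬ Mv VV p r ↔ ∀ v ∈ VV p, ∀ z ∈ r, v • z = z := by
  constructor
  · exact fun h v hv z hz => not_mv h hv hz
  · rintro h ⟨v, hv, z, hz, hne⟩
    exact hne (h v hv z hz)

namespace Frame

variable (F : Frame X Pt VV)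
include F

theorem mv_irrefl (hp : p ∈ Pt) : ¬ Mv VV p p := by
  rintro ⟨v, hv, x, hx, hne⟩
  exact hne (F.triv p hp v hv x hx)

theorem ln_mem (hs : s ∈ Pt) (ht : t ∈ Pt) (hx : x ∈ Ln VV s t) : x ∈ Pt := by
  rcases hx with rfl | ⟨v, hv, rfl⟩
  · exact hs
  · exact F.inv v (F.le s hs hv) t ht

theorem smul_pt (hp : p ∈ Pt) {v : Γ} (hv : v ∈ VV p) : v • p = p := smul_eq_of_fix (F.triv p hp v hv)

theorem exists_ne_one (hp : p ∈ Pt) : ∃ v ∈ VV p, v ≠ 1 := by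
  obtain ⟨r, hr, v, hv, z, hz, hne⟩ := F.exists_mv hp
  refine ⟨v, hv, ?_⟩
  rintro rfl
  exact hne (one_smul _ _)

theorem eq_of_add {a b : M} (h : a + b = 0) : a = b := by
  have := F.two b
  rw [← this] at h
  exact add_right_cancel h

variable [Finite M] (h1 : OneAx Pt VV)
include h1

theorem inj_of_ne (hp : p ∈ Pt) (hr : r ∈ Pt) (h : Mv VV p r) {v : Γ} (hv : v ∈ VV p) (hv1 : v ≠ 1) :
    ∀ z ∈ r, v • z = z → z = 0 :=
  (F.bij p hp r hr (F.symm hp hr h) v hv).resolve_left fun h2 => hv1 (h1 p hp r hr h v hv h2)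

theorem inf_eq_bot_of_mv (hp : p ∈ Pt) (hr : r ∈ Pt) (h : Mv VV p r) : p ⊓ r = ⊥ := by
  rw [eq_bot_iff]
  rintro z ⟨hz, hz'⟩
  obtain ⟨v, hv, hv1⟩ := F.exists_ne_one hp
  exact F.inj_of_ne h1 hp hr h hv hv1 z hz' (F.triv p hp v hv z hz)

/-- `VV p` fixes `u`, or `a ↦ [u, a]` is a bijection of `VV p` onto `p`. -/
theorem dich (hp : p ∈ Pt) (u : M) : (∀ a ∈ VV p, a • u = u) ∨
    ((∀ y ∈ p, ∃ a ∈ VV p, a • u = u + y) ∧ ∀ a ∈ VV p, a • u = u → a = 1) := by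
  obtain ⟨r, hr, hpr⟩ := F.exists_mv hp
  obtain ⟨A, hA, ⟨a0, ha0, x0, hx0, hne⟩, hreg⟩ := F.line p hp r hr hpr
  have hAeq : VV p ≤ A := by
    intro v hv
    obtain ⟨a, ha, hax⟩ := ((hreg x0).resolve_left fun h => hne (h a0 ha0)).1 (dd v x0) (F.dd_mem hp hv x0)
    have h2 : (a⁻¹ * v) • x0 = x0 := by
      rw [mul_smul, F.smul_eq v x0, ← hax, inv_smul_smul]
    have h3 : a⁻¹ * v = 1 := by
      by_contra hne1
      have := F.inj_of_ne h1 hp hr hpr (mul_mem (inv_mem (hA ha)) hv) hne1 x0 hx0 h2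
      exact hne (by rw [this, smul_zero])
    rw [← inv_mul_eq_one.1 h3]
    exact ha
  rcases hreg u with h | h
  · exact Or.inl fun a ha => h a (hAeq ha)
  · refine Or.inr ⟨fun y hy => ?_, fun a ha => h.2 a (hAeq ha)⟩
    obtain ⟨a, ha, h5⟩ := h.1 y hy
    exact ⟨a, hA ha, h5⟩

/-- One non-trivial element of `VV p` decides. -/
theorem fix_all (hp : p ∈ Pt) {v : Γ} (hv : v ∈ VV p) (hv1 : v ≠ 1) {u : M} (hu : v • u = u) :
    ∀ a ∈ VV p, a • u = u :=
  (F.dich h1 hp u).resolve_right fun h => hv1 (h.2 v hv hu)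

theorem surj (hp : p ∈ Pt) (hr : r ∈ Pt) (h : Mv VV p r) {v : Γ} (hv : v ∈ VV p) (hv1 : v ≠ 1) :
    ∀ y ∈ p, ∃ z ∈ r, dd v z = y := by
  let f : ↥r → ↥p := fun z => ⟨dd v (z : M), F.dd_mem hp hv z⟩
  have hf : Function.Injective f := by
    intro z z' hzz
    have h3 : dd v ((z : M) - z') = 0 := by
      rw [map_sub, sub_eq_zero]
      exact congrArg Subtype.val hzz
    have h4 := F.inj_of_ne h1 hp hr h hv hv1 _ (sub_mem z.2 z'.2) ((F.dd_eq_zero_iff v _).1 h3)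
    exact Subtype.ext (sub_eq_zero.1 h4)
  have hs : Function.Surjective f := (hf.bijective_of_nat_card_le (F.card_eq hp hr).le).2
  intro y hy
  obtain ⟨z, hz⟩ := hs ⟨y, hy⟩
  exact ⟨z, z.2, congrArg Subtype.val hz⟩

/-- Every line has a point `~ p`. -/
theorem exists_ln (hp : p ∈ Pt) (hs : s ∈ Pt) (ht : t ∈ Pt) (hst : Mv VV s t) : ∃ x ∈ Ln VV s t, ¬ Mv VV p x := by
  obtain ⟨f, hf, hf1⟩ := F.exists_ne_one hp
  obtain ⟨y, hy, z, hz, hne, hker⟩ : ∃ y ∈ s, ∃ z ∈ t, (y ≠ 0 ∨ z ≠ 0) ∧ f • (y + z) = y + z := by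
    by_contra hcon
    push Not at hcon
    let φ : ↥s × ↥t → ↥p := fun w => ⟨dd f ((w.1 : M) + w.2), F.dd_mem hp hf _⟩
    have hφ : Function.Injective φ := by
      rintro ⟨y, z⟩ ⟨y', z'⟩ hh
      have h3 : dd f (((y : M) - y') + ((z : M) - z')) = 0 := by
        have h4 : dd f ((y : M) + z) = dd f ((y' : M) + z') := congrArg Subtype.val hh
        rw [show ((y : M) - y') + ((z : M) - z') = ((y : M) + z) - ((y' : M) + z') by abel, map_sub, h4, sub_self]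
      have h4 := (F.dd_eq_zero_iff f _).1 h3
      have h5 : ¬ (((y : M) - y') ≠ 0 ∨ ((z : M) - z') ≠ 0) := fun h6 =>
        hcon _ (sub_mem y.2 y'.2) _ (sub_mem z.2 z'.2) h6 h4
      push Not at h5
      exact Prod.ext (Subtype.ext (sub_eq_zero.1 h5.1)) (Subtype.ext (sub_eq_zero.1 h5.2))
    have h6 := Nat.card_le_card_of_injective φ hφ
    rw [Nat.card_prod, F.card_eq hs hp, F.card_eq ht hp] at h6
    have h7 : 1 < Nat.card ↥p := by
      have : Nontrivial ↥p := (AddSubgroup.nontrivial_iff_ne_bot p).2 (F.ne p hp)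
      exact Finite.one_lt_card
    nlinarith
  by_cases hz0 : z = 0
  · subst hz0
    refine ⟨s, Or.inl rfl, fun hps => ?_⟩
    rw [add_zero] at hker
    exact (hne.resolve_right (fun h => h rfl)) (F.inj_of_ne h1 hp hs hps hf hf1 y hy hker)
  · obtain ⟨v, hv, hv1⟩ := F.exists_ne_one hs
    rcases F.dich h1 hs z with h2 | ⟨h2, -⟩
    · exact absurd (F.inj_of_ne h1 hs ht hst hv hv1 z hz (h2 v hv)) hz0
    · obtain ⟨a, ha, hay⟩ := h2 y hy
      refine ⟨a • t, Or.inr ⟨a, ha, rfl⟩, fun hpt => hz0 ?_⟩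
      have h3 : y + z = a • z := by rw [hay, add_comm]
      rw [h3] at hker
      have h4 := F.inj_of_ne h1 hp (F.inv a (F.le s hs ha) t ht) hpt hf hf1 _ (mem_smul hz) hker
      have h5 := congrArg (fun w => a⁻¹ • w) h4
      simpa using h5

/-- Two points of a line which are `~ p` : all points are. -/
theorem all_of_two (hs : s ∈ Pt) (ht : t ∈ Pt) (hst : Mv VV s t) (hx : x ∈ Ln VV s t)
    (hy : y ∈ Ln VV s t) (hxy : x ≠ y) (hpx : ¬ Mv VV p x) (hpy : ¬ Mv VV p y) : ¬ Mv VV p s ∧ ¬ Mv VV p t := by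
  have key : ∀ v ∈ VV s, ¬ Mv VV p s → ¬ Mv VV p (v • t) → ¬ Mv VV p t := by
    rintro v hv h2 h3 ⟨g, hg, z, hz, hne⟩
    apply hne
    have h4 : g • (v • z) = v • z := not_mv h3 hg (mem_smul hz)
    rw [F.smul_eq v z, smul_add, not_mv h2 hg (F.dd_mem hs hv z)] at h4
    exact add_right_cancel h4
  rcases hx with rfl | ⟨v, hv, rfl⟩ <;> rcases hy with rfl | ⟨w, hw, rfl⟩
  · exact absurd rfl hxy
  · exact ⟨hpx, key w hw hpx hpy⟩
  · exact ⟨hpy, key v hv hpy hpx⟩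
  · have hvw : v * w ≠ 1 := by
      intro h
      apply hxy
      have h2 := mul_eq_one_iff_eq_inv.1 h
      rw [F.inv_eq hs hw] at h2
      rw [h2]
    have h5 : ¬ Mv VV p s := by
      rintro ⟨g, hg, z, hz, hne⟩
      obtain ⟨z', hz', rfl⟩ := F.surj h1 hs ht hst (mul_mem hv hw) hvw z hz
      apply hne
      have h6 : dd (v * w) z' = v • z' + w • z' := by
        rw [F.dd_mul hs hv hw, dd_apply, dd_apply, show v • z' + z' + (w • z' + z') = v • z' + w • z' + (z' + z') by abel,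
          F.two, add_zero]
      rw [h6, smul_add, not_mv hpx hg (mem_smul hz'), not_mv hpy hg (mem_smul hz')]
    exact ⟨h5, key v hv h5 hpx⟩

omit [Finite M] h1 in
theorem ln_of_all (hs : s ∈ Pt) (hx : x ∈ Ln VV s t) (hps : ¬ Mv VV p s) (hpt : ¬ Mv VV p t) : ¬ Mv VV p x := by
  rcases hx with rfl | ⟨v, hv, rfl⟩
  · exact hps
  · rintro ⟨g, hg, z, hz, hne⟩
    obtain ⟨w, hw, rfl⟩ := mem_smul_iff.1 hz
    apply hne
    rw [F.smul_eq v w, smul_add, not_mv hpt hg hw, not_mv hps hg (F.dd_mem hs hv w)]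

/-- **(5)(a)** -/
theorem one_or_all (hp : p ∈ Pt) (hs : s ∈ Pt) (ht : t ∈ Pt) (hst : Mv VV s t) :
    (∀ x ∈ Ln VV s t, ¬ Mv VV p x) ∨ ∃! x, x ∈ Ln VV s t ∧ ¬ Mv VV p x := by
  obtain ⟨x, hx, hpx⟩ := F.exists_ln h1 hp hs ht hst
  by_cases h : ∃ y ∈ Ln VV s t, y ≠ x ∧ ¬ Mv VV p y
  · obtain ⟨y, hy, hyx, hpy⟩ := h
    obtain ⟨h2, h3⟩ := F.all_of_two h1 hs ht hst hy hx hyx hpy hpx
    exact Or.inl fun z hz => F.ln_of_all hs hz h2 h3
  · push Not at h
    refine Or.inr ⟨x, ⟨hx, hpx⟩, ?_⟩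
    rintro y ⟨hy, hpy⟩
    by_contra hyx
    exact hpy (h y hy hyx)

/-- The points of a line are pairwise `#`. -/
theorem ln_pair (hs : s ∈ Pt) (ht : t ∈ Pt) (hst : Mv VV s t) (hx : x ∈ Ln VV s t) (hy : y ∈ Ln VV s t)
    (hxy : x ≠ y) : Mv VV x y := by
  by_contra hno
  have hxP := F.ln_mem hs ht hx
  obtain ⟨h2, h3⟩ := F.all_of_two h1 hs ht hst hx hy hxy (F.mv_irrefl hxP) hno
  rcases hx with rfl | ⟨v, hv, rfl⟩
  · exact h3 hst
  · apply h2
    have h4 := (F.mv_smul (r := s) (F.le s hs hv) ht).2 (F.symm hs ht hst)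
    rwa [F.smul_pt hs hv] at h4

/-- `v • s ≠ s` for `1 ≠ v ∈ VV e`, `e # s`. -/
theorem smul_ne (he : e ∈ Pt) (hs : s ∈ Pt) (hes : Mv VV e s) {v : Γ} (hv : v ∈ VV e) (hv1 : v ≠ 1) :
    v • s ≠ s := by
  intro h
  obtain ⟨z, hz, hz0⟩ := (AddSubgroup.bot_or_exists_ne_zero s).resolve_left (F.ne s hs)
  apply hz0
  refine F.inj_of_ne h1 he hs hes hv hv1 z hz ?_
  rw [← F.dd_eq_zero_iff]
  have h2 : v • z ∈ s := by
    rw [← h]
    exact mem_smul hz
  have h3 : dd v z ∈ s := by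
    rw [dd_apply]
    exact add_mem h2 hz
  have h4 : dd v z ∈ e ⊓ s := ⟨F.dd_mem he hv z, h3⟩
  rw [F.inf_eq_bot_of_mv h1 he hs hes] at h4
  exact h4

/-- The step of the proof of `twins`. -/
theorem step_mv (he : e ∈ Pt) (hs : s ∈ Pt) (ht : t ∈ Pt) (hse : Mv VV s e) (hst : Mv VV s t) {u : M}
    (hu : ∀ r ∈ Pt, ¬ Mv VV r e → ∀ g ∈ VV r, g • u = u) (hus : ∀ g ∈ VV s, g • u = u) :
    ∀ g ∈ VV t, g • u = u := by
  intro g hg
  obtain ⟨x, hx, hxe⟩ := F.exists_ln h1 he hs ht hst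
  rcases hx with rfl | ⟨w, hw, rfl⟩
  · exact absurd (F.symm hs he hse) hxe
  · have htP : w • t ∈ Pt := F.inv w (F.le s hs hw) t ht
    have h2 : w * g * w⁻¹ ∈ VV (w • t) := F.conj w (F.le s hs hw) t ht g hg
    have h3 := hu _ htP (fun h => hxe (F.symm htP he h)) _ h2
    rw [mul_smul, mul_smul, hus _ (inv_mem hw)] at h3
    have h4 := congrArg (fun m => w⁻¹ • m) h3
    simp only [inv_smul_smul] at h4
    rw [h4]
    exact hus _ (inv_mem hw)

/-- A vector fixed by all `VV r`, `r ~ e`, and by one `VV s`, `s # e`, is `0`. -/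
theorem eq_zero_of (he : e ∈ Pt) (hs : s ∈ Pt) (hse : Mv VV s e) {u : M}
    (hu : ∀ r ∈ Pt, ¬ Mv VV r e → ∀ g ∈ VV r, g • u = u) (hus : ∀ g ∈ VV s, g • u = u) : u = 0 := by
  refine F.fixed u fun t ht => ?_
  by_cases hte : Mv VV t e
  · by_cases hst : Mv VV s t
    · exact F.step_mv h1 he hs ht hse hst hu hus
    · obtain ⟨v, hv, hv1⟩ := F.exists_ne_one he
      have hes := F.symm hs he hse
      have hxl : v • s ∈ Ln VV e s := Or.inr ⟨v, hv, rfl⟩
      have hsl : s ∈ Ln VV e s := Or.inr ⟨1, one_mem _, (one_smul _ _).symm⟩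
      have hxP := F.ln_mem he hs hxl
      have hne := F.smul_ne h1 he hs hes hv hv1
      have hsx : Mv VV s (v • s) := F.ln_pair h1 he hs hes hsl hxl hne.symm
      have hxe : Mv VV (v • s) e := by
        have h4 := (F.mv_smul (r := e) (F.le e he hv) hs).2 hse
        rwa [F.smul_pt he hv] at h4
      have hxt : Mv VV (v • s) t := by
        by_contra hno
        obtain ⟨h2, -⟩ := F.all_of_two h1 (p := t) he hs hes hsl hxl hne.symm (fun h => hst (F.symm ht hs h))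
          (fun h => hno (F.symm ht hxP h))
        exact h2 hte
      exact F.step_mv h1 he hxP ht hxe hxt hu (F.step_mv h1 he hs hxP hse hsx hu hus)
  · exact hu t ht hte

/-- **(5)(b)** twins. -/
theorem twins (he : e ∈ Pt) (hp : p ∈ Pt) (h : ∀ s ∈ Pt, (Mv VV s e ↔ Mv VV s p)) : e = p := by
  obtain ⟨s, hs, hse⟩ := F.exists_mv' he
  obtain ⟨f, hf, hf1⟩ := F.exists_ne_one hs
  have hle : e ≤ p := by
    intro z hz
    obtain ⟨y, hy, hfy⟩ := F.surj h1 hs hp ((h s hs).1 hse) hf hf1 (dd f z) (F.dd_mem hs hf z)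
    have h2 : z + y = 0 := by
      refine F.eq_zero_of h1 he hs hse (fun r hr hre g hg => ?_) (F.fix_all h1 hs hf hf1 ?_)
      · rw [smul_add, not_mv hre hg hz, not_mv (fun h3 => hre ((h r hr).2 h3)) hg hy]
      · rw [← F.dd_eq_zero_iff, map_add, hfy, F.two]
    rw [F.eq_of_add h2]
    exact hy
  have hcard := F.card_eq he hp
  exact AddSubgroup.eq_of_le_of_card_ge hle hcard.ge

/-- **(5)(c)** distinct points are disjoint. -/
theorem disjoint (he : e ∈ Pt) (hp : p ∈ Pt) (hne : e ≠ p) : e ⊓ p = ⊥ := by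
  by_contra hcon
  obtain ⟨z, hz, hz0⟩ := (AddSubgroup.bot_or_exists_ne_zero (e ⊓ p)).resolve_left hcon
  refine hne (F.twins h1 he hp fun s hs => ?_)
  obtain ⟨v, hv, hv1⟩ := F.exists_ne_one hs
  constructor
  · intro h
    exact ⟨v, hv, z, hz.2, fun h2 => hz0 (F.inj_of_ne h1 hs he h hv hv1 z hz.1 h2)⟩
  · intro h
    exact ⟨v, hv, z, hz.1, fun h2 => hz0 (F.inj_of_ne h1 hs hp h hv hv1 z hz.2 h2)⟩

/-- **(5)(d)**, first half: fix `s # e`; every `r # e` is conjugate to some `t ~ e` under `VV x` for a point `x # e`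
of the line `Ln e s`. -/
theorem exists_conj (he : e ∈ Pt) (hs : s ∈ Pt) (hr : r ∈ Pt) (hse : Mv VV s e) (hre : Mv VV r e) :
    ∃ x ∈ Ln VV e s, Mv VV x e ∧ ∃ w ∈ VV x, ¬ Mv VV (w • r) e := by
  have hes := F.symm hs he hse
  obtain ⟨x0, hx0, hrx0⟩ := F.exists_ln h1 hr he hs hes
  obtain ⟨v, hv, hv1⟩ := F.exists_ne_one he
  have hxl : v • s ∈ Ln VV e s := Or.inr ⟨v, hv, rfl⟩
  have hsl : s ∈ Ln VV e s := Or.inr ⟨1, one_mem _, (one_smul _ _).symm⟩
  have hne := F.smul_ne h1 he hs hes hv hv1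
  have hxe : Mv VV (v • s) e := by
    have h4 := (F.mv_smul (r := e) (F.le e he hv) hs).2 hse
    rwa [F.smul_pt he hv] at h4
  obtain ⟨x, hx, hxx0, hxe'⟩ : ∃ x ∈ Ln VV e s, x ≠ x0 ∧ Mv VV x e := by
    by_cases h : s = x0
    · exact ⟨v • s, hxl, by rw [← h]; exact hne, hxe⟩
    · exact ⟨s, hsl, h, hse⟩
  have hxP := F.ln_mem he hs hx
  have hrx : Mv VV r x := by
    by_contra hno
    exact (F.all_of_two h1 he hs hes hx hx0 hxx0 hno hrx0).1 hre
  obtain ⟨t, ht, het⟩ := F.exists_ln h1 he hxP hr (F.symm hr hxP hrx)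
  rcases ht with rfl | ⟨w, hw, rfl⟩
  · exact absurd (F.symm hxP he hxe') het
  · exact ⟨x, hx, hxe', w, hw, fun h => het (F.symm (F.inv w (F.le x hxP hw) r hr) he h)⟩

/-- **(5)(d)** : the axis of `e` is generated by the points `t ~ e`. -/
theorem ax_eq (he : e ∈ Pt) : Ax VV e = sSup {t | t ∈ Pt ∧ ¬ Mv VV t e} := by
  have hle : sSup {t | t ∈ Pt ∧ ¬ Mv VV t e} ≤ Ax VV e := by
    refine sSup_le ?_
    rintro t ⟨ht, hte⟩ z hz g hg
    exact not_mv (fun h => hte (F.symm he ht h)) hg hz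
  refine le_antisymm ?_ hle
  obtain ⟨s, hs, hse⟩ := F.exists_mv' he
  have hes := F.symm hs he hse
  set T := sSup {t | t ∈ Pt ∧ ¬ Mv VV t e} with hT
  have heT : e ≤ T := le_sSup (show e ∈ {t | t ∈ Pt ∧ ¬ Mv VV t e} from ⟨he, F.mv_irrefl he⟩)
  have htop : T ⊔ s = ⊤ := by
    rw [eq_top_iff, ← F.span]
    refine sSup_le fun r hr => ?_
    by_cases hre : Mv VV r e
    · obtain ⟨x, hx, hxe, w, hw, hwr⟩ := F.exists_conj h1 he hs hr hse hre
      have hxP := F.ln_mem he hs hx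
      have hxle : x ≤ T ⊔ s := by
        rcases hx with rfl | ⟨v, hv, rfl⟩
        · exact absurd hxe (F.mv_irrefl he)
        · intro z hz
          obtain ⟨z', hz', rfl⟩ := mem_smul_iff.1 hz
          rw [F.smul_eq v z']
          exact add_mem ((le_sup_right : s ≤ T ⊔ s) hz') ((le_sup_left : T ≤ T ⊔ s) (heT (F.dd_mem he hv z')))
      intro z hz
      have h2 : w • r ≤ T := le_sSup (show w • r ∈ {t | t ∈ Pt ∧ ¬ Mv VV t e} from
        ⟨F.inv w (F.le x hxP hw) r hr, hwr⟩)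
      have h3 : w • z ∈ T ⊔ s := (le_sup_left : T ≤ T ⊔ s) (h2 (mem_smul hz))
      have h4 : dd w z ∈ T ⊔ s := hxle (F.dd_mem hxP hw z)
      have h5 : z = w • z + dd w z := by
        rw [dd_apply, ← add_assoc, F.two, zero_add]
      rw [h5]
      exact add_mem h3 h4
    · exact le_trans (le_sSup (show r ∈ {t | t ∈ Pt ∧ ¬ Mv VV t e} from ⟨hr, hre⟩)) le_sup_left
  intro u hu
  have hu' : u ∈ T ⊔ s := by rw [htop]; exact AddSubgroup.mem_top u
  obtain ⟨a, ha, b, hb, rfl⟩ := AddSubgroup.mem_sup.1 hu'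
  have h2 : b ∈ Ax VV e := by
    have := sub_mem hu (hle ha)
    rwa [add_sub_cancel_left] at this
  obtain ⟨v, hv, hv1⟩ := F.exists_ne_one he
  have h3 := F.inj_of_ne h1 he hs hes hv hv1 b hb (h2 v hv)
  rw [h3, add_zero]
  exact ha

/-- **(5)(e)** : the intersection of the axes of the points `t ~ e` is `e`. -/
theorem inter (he : e ∈ Pt) {u : M} (hu : ∀ t ∈ Pt, ¬ Mv VV t e → ∀ g ∈ VV t, g • u = u) : u ∈ e := by
  obtain ⟨s, hs, hse⟩ := F.exists_mv' he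
  obtain ⟨f, hf, hf1⟩ := F.exists_ne_one hs
  obtain ⟨z, hz, hfz⟩ := F.surj h1 hs he hse hf hf1 (dd f u) (F.dd_mem hs hf u)
  have h2 : u + z = 0 := by
    refine F.eq_zero_of h1 he hs hse (fun r hr hre g hg => ?_) (F.fix_all h1 hs hf hf1 ?_)
    · rw [smul_add, hu r hr hre g hg, not_mv hre hg hz]
    · rw [← F.dd_eq_zero_iff, map_add, hfz, F.two]
  rw [F.eq_of_add h2]
  exact hz

theorem iInf_ax (he : e ∈ Pt) : ⨅ t ∈ {t | t ∈ Pt ∧ ¬ Mv VV t e}, Ax VV t = e := by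
  refine le_antisymm (fun u hu => F.inter h1 he fun t ht hte g hg => ?_) ?_
  · rw [AddSubgroup.mem_iInf] at hu
    have h2 := hu t
    rw [AddSubgroup.mem_iInf] at h2
    exact h2 ⟨ht, hte⟩ g hg
  · refine le_iInf₂ fun t ht z hz g hg => ?_
    exact not_mv ht.2 hg hz

/-- `M = Ax e + s` for `s # e`. -/
theorem ax_sup (he : e ∈ Pt) (hs : s ∈ Pt) (hes : Mv VV e s) : Ax VV e ⊔ s = ⊤ := by
  rw [eq_top_iff]
  intro u _
  obtain ⟨v, hv, hv1⟩ := F.exists_ne_one he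
  obtain ⟨z, hz, hvz⟩ := F.surj h1 he hs hes hv hv1 (dd v u) (F.dd_mem he hv u)
  refine AddSubgroup.mem_sup.2 ⟨u + z, ?_, z, hz, by rw [add_assoc, F.two, add_zero]⟩
  refine F.fix_all h1 he hv hv1 ?_
  rw [← F.dd_eq_zero_iff, map_add, hvz, F.two]

theorem ax_inf (he : e ∈ Pt) (hs : s ∈ Pt) (hes : Mv VV e s) : Ax VV e ⊓ s = ⊥ := by
  rw [eq_bot_iff]
  rintro z ⟨hz, hz'⟩
  obtain ⟨v, hv, hv1⟩ := F.exists_ne_one he
  exact F.inj_of_ne h1 he hs hes hv hv1 z hz' (hz v hv)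

end Frame

end Cfsg.Agent.Omega.NOThreeL.RBig.Pts
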