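import Cfsg.Agent.Omega.NOThreeL.RBig.Many
import Cfsg.Agent.Omega.NOThreeL.RBig.OneAxis
import Cfsg.Agent.Omega.NOThreeL.RBig.Quad

/-!
# NO-3L, box R (#19087): the abstract dichotomy

`Frame.dichotomy` : either two points `e`, `p` with `V_e` centralising `p` are equal ((4), `|V_p| > |p|`), or there is
one axis and all outputs of (5) hold (`Out`).
-/

set_option autoImplicit false

namespace Cfsg.Agent.Omega.NOThreeL.RBig.Pts

open Subgroup
open scoped Pointwise

variable {Γ M : Type*} [Group Γ] [AddCommGroup M] [DistribMulAction Γ M]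
variable {X : Subgroup Γ} {Pt : Set (AddSubgroup M)} {VV : AddSubgroup M → Subgroup Γ} {p r s t e x y : AddSubgroup M}

namespace Frame

variable (F : Frame X Pt VV) [Finite M]
include F

/-- The outputs of (5). -/
theorem out (h1 : OneAx Pt VV) (he : e ∈ Pt) : Out Pt VV e where
  symm := fun _ hp _ hr h => F.symm hp hr h
  oneAx := h1
  twins := fun _ hp _ hr h => F.twins h1 hp hr h
  disj := fun _ hp _ hr h => F.disjoint h1 hp hr h
  ax := fun m hm => by
    rw [← F.ax_eq h1 he]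
    exact hm
  inter := fun _ hm => F.inter h1 he hm

theorem oneAx_of_card (h : ∀ p ∈ Pt, Nat.card ↥(VV p) ≤ Nat.card ↥p) : OneAx Pt VV := by
  intro p hp r hr hpr v hv hvr
  have h2 := F.card_K hp hr hpr
  have := F.finK (r := r) hp
  have h3 : Nat.card ↥(K VV p r) = 1 := by
    have h4 := h p hp
    rw [h2] at h4
    have h5 : 0 < Nat.card ↥p := Nat.card_pos
    have h6 : 0 < Nat.card ↥(K VV p r) := Nat.card_pos
    nlinarith
  have h4 : v ∈ K VV p r := ⟨hv, hvr⟩
  rw [Subgroup.card_eq_one.1 h3] at h4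
  exact Subgroup.mem_bot.1 h4

/-- **The abstract dichotomy.** -/
theorem dichotomy : (∀ e ∈ Pt, ∀ p ∈ Pt, ¬ Mv VV e p → e = p) ∨ (OneAx Pt VV ∧ ∀ e ∈ Pt, Out Pt VV e) := by
  by_cases h : ∀ p ∈ Pt, Nat.card ↥(VV p) ≤ Nat.card ↥p
  · exact Or.inr ⟨F.oneAx_of_card h, fun e he => F.out (F.oneAx_of_card h) he⟩
  · push Not at h
    obtain ⟨p0, hp0, hlt⟩ := h
    exact Or.inl fun e he p hp hep => F.many ⟨p0, hp0, hlt⟩ he hp hep

end Frame

end Cfsg.Agent.Omega.NOThreeL.RBig.Pts
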