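import Mathlib

/-!
# NO-3L, box R, case (A), `q > 2`, `k = 1` (#19087, helper162, helper761): the abstract point system, (3)

`Frame X Pt VV` : `X` acts on the finite elementary abelian 2-group `M`; `Pt` is a set of subgroups ("points") of
`M`, `VV p` the group `V^_p` of the point `p` (the group generated by the lines over `p`, modulo the elements
acting trivially).  `Mv VV p r` (`p # r`) : `VV p` moves `r`.
-/

set_option autoImplicit false

namespace Cfsg.Agent.Omega.NOThreeL.RBig.Pts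

open Subgroup
open scoped Pointwise

variable {Γ M : Type*} [Group Γ] [AddCommGroup M] [DistribMulAction Γ M]

/-- `VV p` moves `r` (`p # r`). -/
def Mv (VV : AddSubgroup M → Subgroup Γ) (p r : AddSubgroup M) : Prop := ∃ v ∈ VV p, ∃ x ∈ r, v • x ≠ x

/-- The abstract frame. -/
structure Frame (X : Subgroup Γ) (Pt : Set (AddSubgroup M)) (VV : AddSubgroup M → Subgroup Γ) : Prop where
  two : ∀ m : M, m + m = 0
  nonempty : Pt.Nonempty
  ne : ∀ p ∈ Pt, p ≠ ⊥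
  span : sSup Pt = ⊤
  inv : ∀ g ∈ X, ∀ p ∈ Pt, g • p ∈ Pt
  conj : ∀ g ∈ X, ∀ p ∈ Pt, ∀ v ∈ VV p, g * v * g⁻¹ ∈ VV (g • p)
  le : ∀ p ∈ Pt, VV p ≤ X
  /-- the subgroup generated by all `VV s` is transitive on the points -/
  trans : ∀ p ∈ Pt, ∀ r ∈ Pt, ∃ g ∈ ⨆ s ∈ Pt, VV s, r = g • p
  faith : ∀ p ∈ Pt, ∀ v ∈ VV p, (∀ m : M, v • m = m) → v = 1
  /-- `C_M(N) = 0` -/
  fixed : ∀ m : M, (∀ p ∈ Pt, ∀ v ∈ VV p, v • m = m) → m = 0
  map : ∀ p ∈ Pt, ∀ v ∈ VV p, ∀ m : M, v • m + m ∈ p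
  triv : ∀ p ∈ Pt, ∀ v ∈ VV p, ∀ x ∈ p, v • x = x
  /-- (3)(b) -/
  bij : ∀ p ∈ Pt, ∀ r ∈ Pt, Mv VV r p → ∀ v ∈ VV p, (∀ x ∈ r, v • x = x) ∨ ∀ x ∈ r, v • x = x → x = 0
  /-- a line `A` over `p` which moves `r` -/
  line : ∀ p ∈ Pt, ∀ r ∈ Pt, Mv VV p r → ∃ A ≤ VV p, (∃ a ∈ A, ∃ x ∈ r, a • x ≠ x) ∧
    ∀ u : M, (∀ a ∈ A, a • u = u) ∨ ((∀ y ∈ p, ∃ a ∈ A, a • u = u + y) ∧ ∀ a ∈ A, a • u = u → a = 1)

/-- `dd v m = v m + m`. -/
def dd (v : Γ) : M →+ M := DistribSMul.toAddMonoidHom M v + AddMonoidHom.id M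

theorem dd_apply (v : Γ) (m : M) : dd v m = v • m + m := rfl

variable {X : Subgroup Γ} {Pt : Set (AddSubgroup M)} {VV : AddSubgroup M → Subgroup Γ} {p r s t e : AddSubgroup M}

theorem mem_smul {g : Γ} {p : AddSubgroup M} {x : M} (hx : x ∈ p) : g • x ∈ g • p :=
  AddSubgroup.smul_mem_pointwise_smul x g p hx

theorem mem_smul_iff {g : Γ} {p : AddSubgroup M} {y : M} : y ∈ g • p ↔ ∃ x ∈ p, g • x = y := by
  rw [AddSubgroup.mem_smul_pointwise_iff_exists]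

theorem smul_eq_of_fix {g : Γ} {p : AddSubgroup M} (h : ∀ x ∈ p, g • x = x) : g • p = p := by
  ext y
  rw [mem_smul_iff]
  constructor
  · rintro ⟨x, hx, rfl⟩
    rwa [h x hx]
  · intro hy
    exact ⟨y, hy, h y hy⟩

theorem card_smul (g : Γ) (p : AddSubgroup M) : Nat.card ↥(g • p) = Nat.card ↥p := by
  refine (Nat.card_congr (Equiv.ofBijective (fun x : ↥p => (⟨g • (x : M), mem_smul x.2⟩ : ↥(g • p))) ⟨?_, ?_⟩)).symm
  · intro x y h
    have := congrArg Subtype.val h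
    exact Subtype.ext (smul_left_cancel g this)
  · rintro ⟨y, hy⟩
    obtain ⟨x, hx, rfl⟩ := mem_smul_iff.1 hy
    exact ⟨⟨x, hx⟩, rfl⟩

theorem not_mv (h : ¬ Mv VV p r) {v : Γ} (hv : v ∈ VV p) {x : M} (hx : x ∈ r) : v • x = x := by
  by_contra hne
  exact h ⟨v, hv, x, hx, hne⟩

namespace Frame

variable (F : Frame X Pt VV)
include F

theorem smul_eq (v : Γ) (m : M) : v • m = m + dd v m := by
  rw [dd_apply, add_comm (v • m), ← add_assoc, F.two, zero_add]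

theorem dd_mem (hp : p ∈ Pt) {v : Γ} (hv : v ∈ VV p) (m : M) : dd v m ∈ p := F.map p hp v hv m

theorem dd_eq_zero_iff (v : Γ) (m : M) : dd v m = 0 ↔ v • m = m := by
  rw [F.smul_eq v m]
  constructor
  · intro h
    rw [h, add_zero]
  · intro h
    exact left_eq_add.1 h.symm

theorem dd_self (hp : p ∈ Pt) {v : Γ} (hv : v ∈ VV p) {x : M} (hx : x ∈ p) : dd v x = 0 :=
  (F.dd_eq_zero_iff v x).2 (F.triv p hp v hv x hx)

theorem smul_smul_self (hp : p ∈ Pt) {v : Γ} (hv : v ∈ VV p) (m : M) : v • v • m = m := by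
  rw [F.smul_eq v m, smul_add, F.triv p hp v hv _ (F.dd_mem hp hv m), F.smul_eq v m, add_assoc, F.two, add_zero]

theorem sq (hp : p ∈ Pt) {v : Γ} (hv : v ∈ VV p) : v * v = 1 :=
  F.faith p hp _ (mul_mem hv hv) fun m => by rw [mul_smul, F.smul_smul_self hp hv]

theorem inv_eq (hp : p ∈ Pt) {v : Γ} (hv : v ∈ VV p) : v⁻¹ = v := inv_eq_of_mul_eq_one_right (F.sq hp hv)

theorem eq_of_dd (hp : p ∈ Pt) {v w : Γ} (hv : v ∈ VV p) (hw : w ∈ VV p) (h : ∀ m : M, dd v m = dd w m) : v = w := by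
  have h1 : v * w⁻¹ = 1 := by
    refine F.faith p hp _ (mul_mem hv (inv_mem hw)) fun m => ?_
    rw [F.inv_eq hp hw, mul_smul, F.smul_eq w m, smul_add, F.triv p hp v hv _ (F.dd_mem hp hw m), F.smul_eq v m, h,
      add_assoc, F.two, add_zero]
  exact mul_inv_eq_one.1 h1

theorem dd_mul (hp : p ∈ Pt) {v w : Γ} (hv : v ∈ VV p) (hw : w ∈ VV p) (m : M) : dd (v * w) m = dd v m + dd w m := by
  rw [dd_apply, mul_smul, F.smul_eq w m, smul_add, F.triv p hp v hv _ (F.dd_mem hp hw m), dd_apply v m]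
  abel

/-- The commutator of `v ∈ V_p` with `g ∈ V_r`, `g` centralising `p`. -/
theorem comm_mem (hp : p ∈ Pt) (hr : r ∈ Pt) {v g : Γ} (hv : v ∈ VV p) (hg : g ∈ VV r)
    (hgp : ∀ x ∈ p, g • x = x) : v * (g * v * g⁻¹) ∈ VV p := by
  have h1 := F.conj g (F.le r hr hg) p hp v hv
  rw [smul_eq_of_fix hgp] at h1
  exact mul_mem hv h1

theorem dd_comm (hp : p ∈ Pt) (hr : r ∈ Pt) {v g : Γ} (hv : v ∈ VV p) (hg : g ∈ VV r)
    (hgp : ∀ x ∈ p, g • x = x) (m : M) : dd (v * (g * v * g⁻¹)) m = dd v (dd g m) := by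
  have h1 := F.conj g (F.le r hr hg) p hp v hv
  rw [smul_eq_of_fix hgp] at h1
  rw [F.dd_mul hp hv h1]
  -- `dd (g v g⁻¹) m = g (dd v (g⁻¹ m)) = dd v (g m)`
  have h2 : dd (g * v * g⁻¹) m = dd v (g • m) := by
    rw [F.inv_eq hr hg, dd_apply, mul_smul, mul_smul, F.smul_eq v (g • m), smul_add, F.smul_smul_self hr hg,
      hgp _ (F.dd_mem hp hv _), add_comm m, add_assoc, F.two, add_zero]
  rw [h2, F.smul_eq g m, map_add, ← add_assoc, F.two, zero_add]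

theorem top_le_ker {v : Γ} (h : ∀ r ∈ Pt, ∀ x ∈ r, v • x = x) (m : M) : v • m = m := by
  have h1 : sSup Pt ≤ (dd v : M →+ M).ker := sSup_le fun r hr x hx => by
    rw [AddMonoidHom.mem_ker, F.dd_eq_zero_iff]
    exact h r hr x hx
  rw [F.span] at h1
  exact (F.dd_eq_zero_iff v m).1 (h1 (AddSubgroup.mem_top m))

theorem mem_X {g : Γ} (hg : g ∈ ⨆ s ∈ Pt, VV s) : g ∈ X := (iSup₂_le fun s hs => F.le s hs) hg

omit [DistribMulAction Γ M] F in
/-- Something preserved by all `VV s` is preserved by the group they generate. -/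
theorem induct {P : Γ → Prop} (h1 : P 1) (hmul : ∀ a b, P a → P b → P (a * b)) (hinv : ∀ a, P a → P a⁻¹)
    (hV : ∀ s ∈ Pt, ∀ v ∈ VV s, P v) {g : Γ} (hg : g ∈ ⨆ s ∈ Pt, VV s) : P g := by
  let K : Subgroup Γ :=
    { carrier := {x | P x}
      one_mem' := h1
      mul_mem' := fun {a b} ha hb => hmul a b ha hb
      inv_mem' := fun {a} ha => hinv a ha }
  exact (iSup₂_le fun s hs v hv => hV s hs v hv : ⨆ s ∈ Pt, VV s ≤ K) hg

theorem card_eq (hp : p ∈ Pt) (hr : r ∈ Pt) : Nat.card ↥p = Nat.card ↥r := by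
  obtain ⟨g, -, rfl⟩ := F.trans p hp r hr
  rw [card_smul]

theorem conj_iff {g : Γ} (hg : g ∈ X) (hp : p ∈ Pt) {v : Γ} : g * v * g⁻¹ ∈ VV (g • p) ↔ v ∈ VV p := by
  constructor
  · intro h
    have := F.conj g⁻¹ (inv_mem hg) (g • p) (F.inv g hg p hp) _ h
    rw [inv_smul_smul] at this
    convert this using 1
    group
  · intro h
    exact F.conj g hg p hp v h

theorem cardVV_eq (hp : p ∈ Pt) (hr : r ∈ Pt) : Nat.card ↥(VV p) = Nat.card ↥(VV r) := by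
  obtain ⟨g, hg, rfl⟩ := F.trans p hp r hr
  have hgX := F.mem_X hg
  refine Nat.card_congr (Equiv.ofBijective
    (fun v : ↥(VV p) => (⟨g * v * g⁻¹, (F.conj_iff hgX hp).2 v.2⟩ : ↥(VV (g • p)))) ⟨?_, ?_⟩)
  · intro v w h
    have h1 : g * (v : Γ) * g⁻¹ = g * w * g⁻¹ := congrArg Subtype.val h
    exact Subtype.ext (mul_left_cancel (mul_right_cancel h1))
  · rintro ⟨w, hw⟩
    refine ⟨⟨g⁻¹ * w * g, (F.conj_iff hgX hp).1 ?_⟩, Subtype.ext ?_⟩
    · convert hw using 1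
      group
    · change g * (g⁻¹ * w * g) * g⁻¹ = w
      group

theorem mv_smul {g : Γ} (hg : g ∈ X) (hp : p ∈ Pt) : Mv VV (g • p) (g • r) ↔ Mv VV p r := by
  constructor
  · rintro ⟨v, hv, x, hx, hne⟩
    obtain ⟨y, hy, rfl⟩ := mem_smul_iff.1 hx
    refine ⟨g⁻¹ * v * g, (F.conj_iff hg hp).1 (by convert hv using 1; group), y, hy, fun h => hne ?_⟩
    rw [mul_smul, mul_smul, inv_smul_eq_iff] at h
    exact h
  · rintro ⟨v, hv, x, hx, hne⟩
    refine ⟨g * v * g⁻¹, F.conj g hg p hp v hv, g • x, mem_smul hx, fun h => hne ?_⟩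
    rw [mul_smul, mul_smul, inv_smul_smul] at h
    exact smul_left_cancel g h

/-- Two points: every point moves some point. -/
theorem exists_mv (hp : p ∈ Pt) : ∃ r ∈ Pt, Mv VV p r := by
  by_contra hcon
  push Not at hcon
  -- `VV p` is trivial
  have h1 : ∀ v ∈ VV p, ∀ m : M, v • m = m := fun v hv m =>
    F.top_le_ker (fun r hr x hx => not_mv (hcon r hr) hv hx) m
  obtain ⟨x, hx, hx0⟩ := (AddSubgroup.bot_or_exists_ne_zero p).resolve_left (F.ne p hp)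
  refine hx0 (F.fixed x fun s hs v hv => ?_)
  obtain ⟨g, hg, rfl⟩ := F.trans p hp s hs
  have hgX := F.mem_X hg
  have h2 : g⁻¹ * v * g ∈ VV p := (F.conj_iff hgX hp).1 (by convert hv using 1; group)
  have h3 := h1 _ h2 (g⁻¹ • x)
  rw [mul_smul, mul_smul, smul_inv_smul] at h3
  exact smul_left_cancel _ h3

/-- Every point is moved by some point. -/
theorem exists_mv' (hp : p ∈ Pt) : ∃ r ∈ Pt, Mv VV r p := by
  by_contra hcon
  push Not at hcon
  obtain ⟨x, hx, hx0⟩ := (AddSubgroup.bot_or_exists_ne_zero p).resolve_left (F.ne p hp)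
  exact hx0 (F.fixed x fun s hs v hv => not_mv (hcon s hs) hv hx)

end Frame

end Cfsg.Agent.Omega.NOThreeL.RBig.Pts
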