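import Cfsg.Agent.Omega.All.HOneBase
import Cfsg.Agent.Lib.CoprimeAbelian

/-!
# NO-3L, `R ∩ (A)`, split: `|Z₀| > 2` is impossible (helper797 #19602 (6); helper761)

* `exists_odd` : `S ≤ A ≤ N(S)`, `S` Sylow: `A = S K`, `|K|` odd;
* `main` : `Z = Ω₁(Z(S)) = Z₀ E = Z₀ F`, `E = C_Z(P)`, `F = C_Z(H)`, `E ∩ F = 1`, `P` and `H` both fuse `Z₀#`,
  `N_P(S)`, `N_H(S)` normalise `Z₀`, `|Z₀| > 2`: `Z ≤ Z₀`.
-/

set_option autoImplicit false
set_option linter.unusedSectionVars false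

namespace Cfsg.Agent.Omega.NOThreeL.RBig.BigZ

open Subgroup Cfsg Cfsg.Agent.ZN

universe u

variable {G : Type u} [Group G] [Finite G]

/-- Schur–Zassenhaus for `S ≤ A ≤ N(S)`. -/
theorem exists_odd (S : Sylow 2 G) {A : Subgroup G} (hSA : (S : Subgroup G) ≤ A)
    (hA : A ≤ normalizer ((S : Subgroup G) : Set G)) :
    ∃ K : Subgroup G, K ≤ A ∧ A ≤ (S : Subgroup G) ⊔ K ∧ Odd (Nat.card K) := by
  have hf : Fact (Nat.Prime 2) := ⟨Nat.prime_two⟩
  set N := ((S : Subgroup G)).subgroupOf A with hN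
  have hnorm : N.Normal := (normal_subgroupOf_iff_le_normalizer hSA).2 hA
  have h1 : ¬ 2 ∣ N.index := by
    have h2 : N.index = (S : Subgroup G).relIndex A := rfl
    rw [h2]
    intro h3
    exact S.not_dvd_index (h3.trans (relIndex_dvd_index_of_le hSA))
  have hcard : Nat.card N = Nat.card (S : Subgroup G) := by
    rw [hN]
    exact Nat.card_congr (subgroupOfEquivOfLe hSA).toEquiv
  have hcop : Nat.Coprime (Nat.card N) N.index := by
    obtain ⟨n, hn⟩ := IsPGroup.iff_card.1 S.isPGroup'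
    rw [hcard, hn]
    exact Nat.Coprime.pow_left _ ((Nat.Prime.coprime_iff_not_dvd Nat.prime_two).2 h1)
  obtain ⟨K, hK⟩ := exists_right_complement'_of_coprime hcop
  refine ⟨K.map A.subtype, map_subtype_le _, ?_, ?_⟩
  · intro a ha
    have h2 := hK.sup_eq_top
    have h3 : (⟨a, ha⟩ : A) ∈ N ⊔ K := by rw [h2]; exact mem_top _
    have h4 : a ∈ (N ⊔ K).map A.subtype := ⟨_, h3, rfl⟩
    rw [Subgroup.map_sup] at h4
    refine (sup_le ?_ ?_ : N.map A.subtype ⊔ K.map A.subtype ≤ _) h4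
    · rintro _ ⟨x, hx, rfl⟩
      exact mem_sup_left hx
    · exact le_sup_right
  · have h2 : Nat.card (K.map A.subtype : Subgroup G) = Nat.card K :=
      Nat.card_congr (K.equivMapOfInjective _ A.subtype_injective).symm.toEquiv
    have h3 : N.index = Nat.card K := hK.symm.index_eq_card
    rw [h2, ← h3]
    exact Nat.not_even_iff_odd.1 fun h => h1 (even_iff_two_dvd.1 h)

omit [Finite G] in
theorem zc_cent {S : Subgroup G} {x : G} (hx : x ∈ zc S) : x ∈ centralizer (S : Set G) :=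
  mem_centralizer_iff.2 (MinSimple.VModule.mem_zc.1 hx).2.1

/-- Burnside in `P ≥ S`. -/
theorem burnside_in (S : Sylow 2 G) {P : Subgroup G} (hSP : (S : Subgroup G) ≤ P) {x y g : G}
    (hx : x ∈ zc (S : Subgroup G)) (hy : y ∈ zc (S : Subgroup G)) (hg : g ∈ P) (h : g * x * g⁻¹ = y) :
    ∃ n ∈ P ⊓ normalizer ((S : Subgroup G) : Set G), n * x * n⁻¹ = y := by
  have hf : Fact (Nat.Prime 2) := ⟨Nat.prime_two⟩
  let S' : Sylow 2 P := S.subtype hSP
  have hS' : (S' : Subgroup P) = (S : Subgroup G).subgroupOf P := rfl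
  have hxP : x ∈ P := hSP (MinSimple.VModule.zc_le _ hx)
  have hc : ∀ t : G, t ∈ zc (S : Subgroup G) → ∀ ht : t ∈ P, (⟨t, ht⟩ : P) ∈ centralizer ((S' : Subgroup P) : Set P) := by
    intro t ht htP
    refine mem_centralizer_iff.2 fun s hs => Subtype.ext ?_
    have h1 : (s : G) ∈ (S : Subgroup G) := hs
    exact mem_centralizer_iff.1 (zc_cent ht) s h1
  have hyP : y ∈ P := hSP (MinSimple.VModule.zc_le _ hy)
  obtain ⟨n, hn, h1⟩ := S'.conj_eq_normalizer_conj_of_mem_centralizer (⟨x, hxP⟩ : P) (⟨g⁻¹, inv_mem hg⟩ : P) (hc x hx hxP)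
    (by
      have e : (⟨g⁻¹, inv_mem hg⟩ : P)⁻¹ * ⟨x, hxP⟩ * ⟨g⁻¹, inv_mem hg⟩ = ⟨y, hyP⟩ := Subtype.ext (by
        change (g⁻¹)⁻¹ * x * g⁻¹ = y
        rw [inv_inv, h])
      rw [e]
      exact hc y hy hyP)
  have h2 := congrArg Subtype.val h1
  change (g⁻¹)⁻¹ * x * g⁻¹ = (n : G)⁻¹ * x * n at h2
  rw [inv_inv, h] at h2
  suffices h9 : (n : G) ∈ normalizer ((S : Subgroup G) : Set G) from
    ⟨(n : G)⁻¹, mem_inf.2 ⟨inv_mem n.2, inv_mem h9⟩, by rw [inv_inv, ← h2]⟩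
  rw [mem_normalizer_iff]
  intro s
  have h3 := mem_normalizer_iff.1 hn
  constructor
  · intro hs
    have h4 := (h3 ⟨s, hSP hs⟩).1 hs
    exact h4
  · intro hs
    have hs' : s ∈ P := by
      have h5 : (n : G)⁻¹ * (n * s * (n : G)⁻¹) * n ∈ P := mul_mem (mul_mem (inv_mem n.2) (hSP hs)) n.2
      have e : (n : G)⁻¹ * (n * s * (n : G)⁻¹) * n = s := by group
      rwa [e] at h5
    exact (h3 ⟨s, hs'⟩).2 hs

/-- A group fusing `Z₀#`, `|Z₀| > 2`, normalising `Z₀`, centralising `E`: its centraliser in `Z₀ E` is in `E`. -/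
theorem mem_of_fixed {Z₀ E : Subgroup G} {A : Set G} (h2 : 2 < Nat.card Z₀)
    (hf : ∀ x ∈ Z₀, ∀ y ∈ Z₀, x ≠ 1 → y ≠ 1 → ∃ g ∈ A, g * x * g⁻¹ = y)
    (hE : ∀ g ∈ A, ∀ e ∈ E, g * e = e * g) {x : G} (hx : x ∈ Z₀) {e : G} (he : e ∈ E)
    (hfix : ∀ g ∈ A, g * (x * e) = x * e * g) : x = 1 := by
  by_contra hx1
  -- another element
  obtain ⟨y, hy, hy1, hyx⟩ : ∃ y ∈ Z₀, y ≠ 1 ∧ y ≠ x := by
    by_contra hcon
    push Not at hcon
    have h3 : (Z₀ : Set G) ⊆ {1, x} := fun y hy => by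
      by_cases h : y = 1
      · exact Or.inl h
      · exact Or.inr (hcon y hy h)
    have h4 := Set.ncard_le_ncard h3 (Set.toFinite _)
    have h5 : (Z₀ : Set G).ncard = Nat.card Z₀ := rfl
    have h6 := Set.ncard_insert_le (1 : G) {x}
    rw [Set.ncard_singleton] at h6
    omega
  obtain ⟨g, hg, e1⟩ := hf x hx y hy hx1 hy1
  apply hyx
  have h3 := hfix g hg
  have h4 := hE g hg e he
  have h5 : g * x * e = x * g * e := by
    calc g * x * e = g * (x * e) := by group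
      _ = x * e * g := h3
      _ = x * (e * g) := by group
      _ = x * (g * e) := by rw [h4]
      _ = x * g * e := by group
  have h6 := mul_right_cancel h5
  rw [← e1, h6]
  group

/-- **`Z ≤ Z₀`.** -/
theorem main (S : Sylow 2 G) {P H Z₀ : Subgroup G} (hSP : (S : Subgroup G) ≤ P) (hSH : (S : Subgroup G) ≤ H)
    (hZ₀ : Z₀ ≤ zc (S : Subgroup G)) (h2 : 2 < Nat.card Z₀)
    (hZE : zc (S : Subgroup G) ≤ Z₀ ⊔ (zc (S : Subgroup G) ⊓ centralizer (P : Set G)))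
    (hZF : zc (S : Subgroup G) ≤ Z₀ ⊔ (zc (S : Subgroup G) ⊓ centralizer (H : Set G)))
    (hEF : ∀ x ∈ zc (S : Subgroup G), x ∈ centralizer (P : Set G) → x ∈ centralizer (H : Set G) → x = 1)
    (hP : ∀ x ∈ Z₀, ∀ y ∈ Z₀, x ≠ 1 → y ≠ 1 → ∃ g ∈ P, g * x * g⁻¹ = y)
    (hH : ∀ x ∈ Z₀, ∀ y ∈ Z₀, x ≠ 1 → y ≠ 1 → ∃ g ∈ H, g * x * g⁻¹ = y)
    (nP : ∀ g ∈ P ⊓ normalizer ((S : Subgroup G) : Set G), ∀ x ∈ Z₀, g * x * g⁻¹ ∈ Z₀)
    (nH : ∀ g ∈ H ⊓ normalizer ((S : Subgroup G) : Set G), ∀ x ∈ Z₀, g * x * g⁻¹ ∈ Z₀) :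
    zc (S : Subgroup G) ≤ Z₀ := by
  set Z := zc (S : Subgroup G) with hZ
  set NS := normalizer ((S : Subgroup G) : Set G) with hNS
  have hZab : ∀ x ∈ Z, ∀ y ∈ Z, x * y = y * x := fun x hx y hy =>
    (mem_centralizer_iff.1 (zc_cent hx) y (MinSimple.VModule.zc_le _ hy)).symm
  -- `A = ⟨N_P(S), N_H(S)⟩`
  set A := (P ⊓ NS) ⊔ (H ⊓ NS) with hA
  have hAN : A ≤ NS := sup_le inf_le_right inf_le_right
  have hSA : (S : Subgroup G) ≤ A := (le_inf hSP le_normalizer).trans le_sup_left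
  obtain ⟨K, hKA, hAK, hodd⟩ := exists_odd S hSA hAN
  have hNZ : NS ≤ normalizer (Z : Set G) := MinSimple.VModule.normalizer_le_normalizer_zc _
  -- `A` is trivial on `Z / Z₀`
  have key : ∀ g ∈ A, (∀ z ∈ Z, z * g * z⁻¹ * g⁻¹ ∈ Z₀) := by
    let B : Subgroup G :=
      { carrier := {g | g ∈ NS ∧ ∀ z ∈ Z, z * g * z⁻¹ * g⁻¹ ∈ Z₀}
        one_mem' := ⟨one_mem _, fun z _ => by simp⟩
        mul_mem' := by
          rintro g h ⟨hg, hg'⟩ ⟨hh, hh'⟩
          refine ⟨mul_mem hg hh, fun z hz => ?_⟩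
          have h1 := hg' z hz
          have h3 : g * (z * h * z⁻¹ * h⁻¹) * g⁻¹ ∈ Z₀ := by
            have h4 := hh' z hz
            have h5 := hg' _ (hZ₀ h4)
            have e : g * (z * h * z⁻¹ * h⁻¹) * g⁻¹ = ((z * h * z⁻¹ * h⁻¹) * g * (z * h * z⁻¹ * h⁻¹)⁻¹ * g⁻¹)⁻¹ *
                (z * h * z⁻¹ * h⁻¹) := by group
            rw [e]
            exact mul_mem (inv_mem h5) h4
          have e : z * (g * h) * z⁻¹ * (g * h)⁻¹ = z * g * z⁻¹ * g⁻¹ * (g * (z * h * z⁻¹ * h⁻¹) * g⁻¹) := by group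
          rw [e]
          exact mul_mem h1 h3
        inv_mem' := by
          rintro g ⟨hg, hg'⟩
          refine ⟨inv_mem hg, fun z hz => ?_⟩
          have h3 : g⁻¹ * z * g ∈ Z := (mem_normalizer_iff''.1 (hNZ hg) z).1 hz
          have h4 := hg' _ h3
          have e : z * g⁻¹ * z⁻¹ * g⁻¹⁻¹ = ((g⁻¹ * z * g) * g * (g⁻¹ * z * g)⁻¹ * g⁻¹)⁻¹ := by group
          rw [e]
          exact inv_mem h4 }
    have hB : A ≤ B := by
      refine sup_le (fun g hg => ⟨hg.2, fun z hz => ?_⟩) (fun g hg => ⟨hg.2, fun z hz => ?_⟩)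
      · have h1 : z ∈ ((Z₀ ⊔ (Z ⊓ centralizer (P : Set G)) : Subgroup G) : Set G) := hZE hz
        rw [coe_mul_of_left_le_normalizer_right _ _ ?_] at h1
        · obtain ⟨x, hx, e, he, rfl⟩ := Set.mem_mul.mp h1
          have h3 : g * e⁻¹ = e⁻¹ * g := mem_centralizer_iff.1 (inv_mem he.2) g hg.1
          have e1 : x * e * g * (x * e)⁻¹ * g⁻¹ = x * (g * x⁻¹ * g⁻¹) := by
            calc x * e * g * (x * e)⁻¹ * g⁻¹ = x * e * (g * e⁻¹) * x⁻¹ * g⁻¹ := by group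
              _ = x * e * (e⁻¹ * g) * x⁻¹ * g⁻¹ := by rw [h3]
              _ = _ := by group
          rw [e1]
          exact mul_mem hx (nP g hg _ (inv_mem hx))
        · intro x hx
          refine centralizer_le_normalizer _ (mem_centralizer_iff.2 fun e he => hZab e he.1 x (hZ₀ hx))
      · have h1 : z ∈ ((Z₀ ⊔ (Z ⊓ centralizer (H : Set G)) : Subgroup G) : Set G) := hZF hz
        rw [coe_mul_of_left_le_normalizer_right _ _ ?_] at h1
        · obtain ⟨x, hx, e, he, rfl⟩ := Set.mem_mul.mp h1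
          have h3 : g * e⁻¹ = e⁻¹ * g := mem_centralizer_iff.1 (inv_mem he.2) g hg.1
          have e1 : x * e * g * (x * e)⁻¹ * g⁻¹ = x * (g * x⁻¹ * g⁻¹) := by
            calc x * e * g * (x * e)⁻¹ * g⁻¹ = x * e * (g * e⁻¹) * x⁻¹ * g⁻¹ := by group
              _ = x * e * (e⁻¹ * g) * x⁻¹ * g⁻¹ := by rw [h3]
              _ = _ := by group
          rw [e1]
          exact mul_mem hx (nH g hg _ (inv_mem hx))
        · intro x hx
          refine centralizer_le_normalizer _ (mem_centralizer_iff.2 fun e he => hZab e he.1 x (hZ₀ hx))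
    exact fun g hg => (hB hg).2
  have hcop : (Nat.card K).Coprime (Nat.card Z) := by
    have hf : Fact (Nat.Prime 2) := ⟨Nat.prime_two⟩
    obtain ⟨n, hn⟩ := IsPGroup.iff_card.1 (S.isPGroup'.to_le (MinSimple.VModule.zc_le (S : Subgroup G)))
    rw [hZ, hn]
    exact Nat.Coprime.pow_right _ (Nat.coprime_two_right.2 hodd)
  have h3 := Cfsg.Agent.Lib.CoprimeAbelian.sup_commutator_eq K Z hZab ((hKA.trans hAN).trans hNZ) hcop
  rw [← h3]
  refine sup_le (fun z hz => ?_) ?_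
  · -- `C_Z(K) = C_Z(A) = 1`
    have hzA : ∀ g ∈ A, g * z = z * g := by
      have h4 : A ≤ centralizer ({z} : Set G) := by
        refine hAK.trans (sup_le (fun g hg => ?_) fun g hg => ?_)
        · rw [mem_centralizer_singleton_iff]
          exact mem_centralizer_iff.1 (zc_cent hz.1) g hg
        · rw [mem_centralizer_singleton_iff]
          exact mem_centralizer_iff.1 hz.2 g hg
      exact fun g hg => mem_centralizer_singleton_iff.1 (h4 hg)
    have fus : ∀ {P : Subgroup G}, (S : Subgroup G) ≤ P →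
        (∀ x ∈ Z₀, ∀ y ∈ Z₀, x ≠ 1 → y ≠ 1 → ∃ g ∈ P, g * x * g⁻¹ = y) →
        ∀ x ∈ Z₀, ∀ y ∈ Z₀, x ≠ 1 → y ≠ 1 → ∃ g ∈ ((P ⊓ NS : Subgroup G) : Set G), g * x * g⁻¹ = y := by
      intro P hSP hP x hx y hy hx1 hy1
      obtain ⟨g, hg, e⟩ := hP x hx y hy hx1 hy1
      exact burnside_in S hSP (hZ₀ hx) (hZ₀ hy) hg e
    have hzP : z ∈ centralizer (P : Set G) := by
      have h1 : z ∈ ((Z₀ ⊔ (Z ⊓ centralizer (P : Set G)) : Subgroup G) : Set G) := hZE hz.1
      rw [coe_mul_of_left_le_normalizer_right Z₀ (Z ⊓ centralizer (P : Set G)) (fun x hx => centralizer_le_normalizer _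
        (mem_centralizer_iff.2 fun e he => hZab e he.1 x (hZ₀ hx)))] at h1
      obtain ⟨x, hx, e, he, rfl⟩ := Set.mem_mul.mp h1
      have h5 := mem_of_fixed (A := ((P ⊓ NS : Subgroup G) : Set G)) h2 (fus hSP hP)
        (fun g hg e he => mem_centralizer_iff.1 he g hg.1) (E := centralizer (P : Set G)) hx he.2
        (fun g hg => hzA g (mem_sup_left hg))
      rw [h5, one_mul]
      exact he.2
    have hzH : z ∈ centralizer (H : Set G) := by
      have h1 : z ∈ ((Z₀ ⊔ (Z ⊓ centralizer (H : Set G)) : Subgroup G) : Set G) := hZF hz.1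
      rw [coe_mul_of_left_le_normalizer_right Z₀ (Z ⊓ centralizer (H : Set G)) (fun x hx => centralizer_le_normalizer _
        (mem_centralizer_iff.2 fun e he => hZab e he.1 x (hZ₀ hx)))] at h1
      obtain ⟨x, hx, e, he, rfl⟩ := Set.mem_mul.mp h1
      have h5 := mem_of_fixed (A := ((H ⊓ NS : Subgroup G) : Set G)) h2 (fus hSH hH)
        (fun g hg e he => mem_centralizer_iff.1 he g hg.1) (E := centralizer (H : Set G)) hx he.2
        (fun g hg => hzA g (mem_sup_right hg))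
      rw [h5, one_mul]
      exact he.2
    rw [hEF z hz.1 hzP hzH]
    exact one_mem _
  · rw [commutator_le]
    intro z hz k hk
    rw [commutatorElement_def]
    exact key k (hKA hk) z hz

end Cfsg.Agent.Omega.NOThreeL.RBig.BigZ
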