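import Cfsg.Agent.Omega.NOThreeL.RBig.Sym

/-!
# NO-3L, box R (#19087 (3)(d), (e)): lines, common movers, the hyperplanes `K p r`
-/

set_option autoImplicit false

namespace Cfsg.Agent.Omega.NOThreeL.RBig.Pts

open Subgroup
open scoped Pointwise

variable {Γ M : Type*} [Group Γ] [AddCommGroup M] [DistribMulAction Γ M]
variable {X : Subgroup Γ} {Pt : Set (AddSubgroup M)} {VV : AddSubgroup M → Subgroup Γ} {p r s t e x y : AddSubgroup M}

/-- `{v ∈ V_p : v centralises r}`. -/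
def K (VV : AddSubgroup M → Subgroup Γ) (p r : AddSubgroup M) : Subgroup Γ where
  carrier := {v | v ∈ VV p ∧ ∀ x ∈ r, v • x = x}
  one_mem' := ⟨one_mem _, fun x _ => one_smul _ x⟩
  mul_mem' := fun {a b} ha hb => ⟨mul_mem ha.1 hb.1, fun x hx => by rw [mul_smul, hb.2 x hx, ha.2 x hx]⟩
  inv_mem' := fun {a} ha => ⟨inv_mem ha.1, fun x hx => by rw [inv_smul_eq_iff, ha.2 x hx]⟩

theorem mem_K {v : Γ} : v ∈ K VV p r ↔ v ∈ VV p ∧ ∀ x ∈ r, v • x = x := Iff.rfl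

theorem K_le : K VV p r ≤ VV p := fun _ h => h.1

namespace Frame

variable (F : Frame X Pt VV)
include F

theorem fin [Finite M] (hp : p ∈ Pt) : Finite ↥(VV p) :=
  Finite.of_injective (fun w : ↥(VV p) => fun m : M => dd (w : Γ) m) fun w w' hww =>
    Subtype.ext (F.eq_of_dd hp w.2 w'.2 fun m => congrFun hww m)

theorem irrefl (hp : p ∈ Pt) : ¬ Mv VV p p := fun ⟨v, hv, x, hx, h⟩ => h (F.triv p hp v hv x hx)

theorem mem_smul_point (hp : p ∈ Pt) {v : Γ} (hv : v ∈ VV p) (hr : r ∈ Pt) : v • r ∈ Pt :=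
  F.inv v (F.le p hp hv) r hr

theorem smul_self (hp : p ∈ Pt) {v : Γ} (hv : v ∈ VV p) : v • p = p := smul_eq_of_fix (F.triv p hp v hv)

/-- `v ∈ V_p` moves `r` : injective on `r`. -/
theorem inj_of_mv (hp : p ∈ Pt) (hr : r ∈ Pt) (h : Mv VV r p) {v : Γ} (hv : v ∈ VV p) {x0 : M} (hx0 : x0 ∈ r)
    (hne : v • x0 ≠ x0) : ∀ x ∈ r, v • x = x → x = 0 :=
  (F.bij p hp r hr h v hv).resolve_left fun h => hne (h x0 hx0)

variable [Finite M]

theorem inj_of (hp : p ∈ Pt) (hr : r ∈ Pt) {v : Γ} (hv : v ∈ VV p) {x0 : M} (hx0 : x0 ∈ r)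
    (hne : v • x0 ≠ x0) : ∀ x ∈ r, v • x = x → x = 0 :=
  F.inj_of_mv hp hr (F.symm hp hr ⟨v, hv, x0, hx0, hne⟩) hv hx0 hne

/-- If `v ∈ V_p` moves `r`, then `dd v : r → p` is onto. -/
theorem onto (hp : p ∈ Pt) (hr : r ∈ Pt) {v : Γ} (hv : v ∈ VV p) {x0 : M} (hx0 : x0 ∈ r)
    (hne : v • x0 ≠ x0) {z : M} (hz : z ∈ p) : ∃ x ∈ r, dd v x = z := by
  have hinj := F.inj_of hp hr hv hx0 hne
  let f : ↥r → ↥p := fun x => ⟨dd v (x : M), F.dd_mem hp hv _⟩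
  have hf : Function.Injective f := by
    intro x x' h
    have h2 : dd v (x : M) = dd v (x' : M) := congrArg Subtype.val h
    have h3 : dd v ((x : M) - (x' : M)) = 0 := by rw [map_sub, h2, sub_self]
    exact Subtype.ext (sub_eq_zero.1 (hinj _ (sub_mem x.2 x'.2) ((F.dd_eq_zero_iff v _).1 h3)))
  have hfs : Function.Surjective f := by
    have := Fintype.ofFinite ↥r
    have := Fintype.ofFinite ↥p
    refine ((Fintype.bijective_iff_injective_and_card f).2 ⟨hf, ?_⟩).2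
    rw [← Nat.card_eq_fintype_card, ← Nat.card_eq_fintype_card, F.card_eq hr hp]
  obtain ⟨x, hx⟩ := hfs ⟨z, hz⟩
  exact ⟨x, x.2, congrArg Subtype.val hx⟩

omit [Finite M] in
/-- The third point: `s` moves `r` but not `p`, `v ∈ V_p` : `s` moves `v • r`. -/
theorem mv_third (hp : p ∈ Pt) {v : Γ} (hv : v ∈ VV p) (hsr : Mv VV s r) (hsp : ¬ Mv VV s p) :
    Mv VV s (v • r) := by
  obtain ⟨w, hw, x, hx, hne⟩ := hsr
  refine ⟨w, hw, v • x, mem_smul hx, fun h => hne ?_⟩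
  rw [F.smul_eq v x, smul_add, not_mv hsp hw (F.dd_mem hp hv x)] at h
  exact add_right_cancel h

omit [Finite M] in
/-- `v ∈ V_p` moves `r`: a point `s` which moves neither `p` nor `v • r` does not move `r`. -/
theorem mv_or_of_line (hp : p ∈ Pt) {v : Γ} (hv : v ∈ VV p) (h1 : ¬ Mv VV s p) :
    Mv VV s (v • r) ↔ Mv VV s r := by
  constructor
  · intro h
    have := F.mv_third hp (v := v) hv h h1
    rwa [smul_smul, F.sq hp hv, one_smul] at this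
  · exact fun h => F.mv_third hp hv h h1

/-- (RED): a path of length 3 can be shortened. -/
theorem red {p0 p1 p2 p3 : AddSubgroup M} (h0 : p0 ∈ Pt) (h1 : p1 ∈ Pt) (h2 : p2 ∈ Pt) (h3 : p3 ∈ Pt)
    (h01 : Mv VV p0 p1) (h12 : Mv VV p1 p2) (h23 : Mv VV p2 p3) : ∃ x ∈ Pt, Mv VV x p0 ∧ Mv VV x p3 := by
  by_cases h02 : Mv VV p0 p2
  · exact ⟨p2, h2, F.symm h0 h2 h02, h23⟩
  by_cases h13 : Mv VV p1 p3
  · exact ⟨p1, h1, F.symm h0 h1 h01, h13⟩
  obtain ⟨v, hv, z, hz, hne⟩ := h12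
  have hx : v • p2 ∈ Pt := F.mem_smul_point h1 hv h2
  refine ⟨v • p2, hx, F.symm h0 hx ?_, F.symm h3 hx ?_⟩
  · -- if `p0` does not move `v • p2` and `p2` it does not move `p1`
    by_contra hno
    obtain ⟨w, hw, y, hy, hwy⟩ := h01
    obtain ⟨a, ha, rfl⟩ := F.onto h1 h2 hv hz hne hy
    refine hwy ?_
    have e1 : w • (v • a) = v • a := not_mv hno hw (mem_smul ha)
    have e2 : w • a = a := not_mv h02 hw ha
    rw [F.smul_eq v a, smul_add, e2] at e1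
    exact add_left_cancel e1
  · have h31 : ¬ Mv VV p3 p1 := fun h => h13 (F.symm h3 h1 h)
    exact F.mv_third h1 hv (F.symm h2 h3 h23) h31

/-- **Any two points are moved by a common point** (3)(d). -/
theorem common (hp : p ∈ Pt) (hs : s ∈ Pt) : ∃ x ∈ Pt, Mv VV x p ∧ Mv VV x s := by
  -- the set of good points is closed under neighbours
  have hstep : ∀ a ∈ Pt, ∀ b ∈ Pt, (∃ x ∈ Pt, Mv VV x p ∧ Mv VV x a) → Mv VV a b →
      ∃ x ∈ Pt, Mv VV x p ∧ Mv VV x b := by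
    rintro a ha b hb ⟨x, hx, hxp, hxa⟩ hab
    exact F.red hp hx ha hb (F.symm hx hp hxp) hxa hab
  have hkey : ∀ t ∈ Pt, ∀ g ∈ VV t, ∀ a ∈ Pt, (∃ x ∈ Pt, Mv VV x p ∧ Mv VV x a) →
      ∃ x ∈ Pt, Mv VV x p ∧ Mv VV x (g • a) := by
    intro t ht g hg a ha h
    by_cases hta : Mv VV t a
    · have h1 := hstep a ha t ht h (F.symm ht ha hta)
      have h2 : Mv VV t (g • a) := by
        have := (F.mv_smul (r := a) (F.le t ht hg) ht).2 hta
        rwa [F.smul_self ht hg] at this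
      exact hstep t ht (g • a) (F.mem_smul_point ht hg ha) h1 h2
    · rwa [smul_eq_of_fix fun z hz => not_mv hta hg hz]
  have hall : ∀ g ∈ ⨆ s ∈ Pt, VV s, (∀ a ∈ Pt, (∃ x ∈ Pt, Mv VV x p ∧ Mv VV x a) →
      ∃ x ∈ Pt, Mv VV x p ∧ Mv VV x (g • a)) ∧ ∀ a ∈ Pt, (∃ x ∈ Pt, Mv VV x p ∧ Mv VV x a) →
      ∃ x ∈ Pt, Mv VV x p ∧ Mv VV x (g⁻¹ • a) := by
    intro g hg
    have hg0 := hg
    suffices H : g ∈ X ∧ (∀ a ∈ Pt, (∃ x ∈ Pt, Mv VV x p ∧ Mv VV x a) →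
      ∃ x ∈ Pt, Mv VV x p ∧ Mv VV x (g • a)) ∧ ∀ a ∈ Pt, (∃ x ∈ Pt, Mv VV x p ∧ Mv VV x a) →
      ∃ x ∈ Pt, Mv VV x p ∧ Mv VV x (g⁻¹ • a) from H.2
    refine induct (Pt := Pt) (VV := VV) (P := fun g : Γ => g ∈ X ∧ (∀ a ∈ Pt, (∃ x ∈ Pt, Mv VV x p ∧ Mv VV x a) →
      ∃ x ∈ Pt, Mv VV x p ∧ Mv VV x (g • a)) ∧ ∀ a ∈ Pt, (∃ x ∈ Pt, Mv VV x p ∧ Mv VV x a) →
      ∃ x ∈ Pt, Mv VV x p ∧ Mv VV x (g⁻¹ • a)) ?_ ?_ ?_ ?_ hg
    · exact ⟨one_mem _, fun a _ h => by rwa [one_smul], fun a _ h => by rwa [inv_one, one_smul]⟩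
    · rintro a b ⟨haX, ha, ha'⟩ ⟨hbX, hb, hb'⟩
      refine ⟨mul_mem haX hbX, fun c hc h => ?_, fun c hc h => ?_⟩
      · rw [mul_smul]
        exact ha _ (F.inv b hbX c hc) (hb c hc h)
      · rw [mul_inv_rev, mul_smul]
        exact hb' _ (F.inv _ (inv_mem haX) c hc) (ha' c hc h)
    · rintro a ⟨haX, ha, ha'⟩
      exact ⟨inv_mem haX, ha', fun c hc h => by rw [inv_inv]; exact ha c hc h⟩
    · intro t ht v hv
      refine ⟨F.le t ht hv, hkey t ht v hv, ?_⟩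
      rw [F.inv_eq ht hv]
      exact hkey t ht v hv
  obtain ⟨x, hx, hxp⟩ := F.exists_mv' hp
  obtain ⟨g, hg, rfl⟩ := F.trans p hp s hs
  exact (hall g hg).1 p hp ⟨x, hx, hxp, hxp⟩

/-- The index of `K p r` in `V_p` is `|p|`. -/
theorem card_K (hp : p ∈ Pt) (hr : r ∈ Pt) (h : Mv VV p r) :
    Nat.card ↥(VV p) = Nat.card ↥p * Nat.card ↥(K VV p r) := by
  have hfin := F.fin hp
  obtain ⟨A, hAle, ⟨a, ha, u, hu, hau⟩, hreg⟩ := F.line p hp r hr h
  have hu' := (hreg u).resolve_left fun h => hau (h a ha)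
  -- the map `v ↦ dd v u`
  let f : ↥(VV p) →* Multiplicative ↥p :=
    { toFun := fun v => Multiplicative.ofAdd (⟨dd (v : Γ) u, F.dd_mem hp v.2 u⟩ : ↥p)
      map_one' := by
        apply congrArg Multiplicative.ofAdd
        apply Subtype.ext
        change dd (1 : Γ) u = 0
        rw [F.dd_eq_zero_iff, one_smul]
      map_mul' := fun v w => by
        rw [← ofAdd_add]
        apply congrArg Multiplicative.ofAdd
        apply Subtype.ext
        exact F.dd_mul hp v.2 w.2 u }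
  have hfs : Function.Surjective f := by
    intro z
    obtain ⟨b, hb, hbu⟩ := hu'.1 (Multiplicative.toAdd z : ↥p) (Multiplicative.toAdd z : ↥p).2
    refine ⟨⟨b, hAle hb⟩, ?_⟩
    apply Multiplicative.toAdd.injective
    apply Subtype.ext
    change dd b u = _
    have := F.smul_eq b u
    rw [hbu] at this
    exact (add_left_cancel this).symm
  have hker : ∀ v : ↥(VV p), v ∈ f.ker ↔ (v : Γ) ∈ K VV p r := by
    intro v
    rw [MonoidHom.mem_ker, mem_K]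
    have h1 : f v = 1 ↔ dd (v : Γ) u = 0 := by
      rw [← toAdd_eq_zero]
      exact Subtype.ext_iff
    rw [h1, F.dd_eq_zero_iff]
    constructor
    · intro hvu
      refine ⟨v.2, ?_⟩
      by_contra hcon
      push Not at hcon
      obtain ⟨x0, hx0, hne⟩ := hcon
      have hu0 := F.inj_of hp hr v.2 hx0 hne u hu hvu
      exact hau (by rw [hu0, smul_zero])
    · exact fun hv => hv.2 u hu
  have h1 : Nat.card ↥f.ker = Nat.card ↥(K VV p r) := by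
    refine Nat.card_congr (Equiv.ofBijective (fun v : ↥f.ker => (⟨((v : ↥(VV p)) : Γ), (hker v).1 v.2⟩ : ↥(K VV p r)))
      ⟨?_, ?_⟩)
    · intro v w hvw
      exact Subtype.ext (Subtype.ext (Subtype.ext_iff.1 hvw :))
    · rintro ⟨v, hv⟩
      exact ⟨⟨⟨v, hv.1⟩, (hker ⟨v, hv.1⟩).2 hv⟩, rfl⟩
  have h2 : Nat.card (Multiplicative ↥p) = Nat.card ↥p := rfl
  rw [← h1, ← h2, ← Nat.card_congr (QuotientGroup.quotientKerEquivOfSurjective f hfs).toEquiv,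
    Subgroup.card_eq_card_quotient_mul_card_subgroup f.ker]

/-- (3)(e): `v ∈ V_e` moves `x`, `w ∈ K e x` : `w` acts as `dd v ∘ dd g` for some `g ∈ K x e`. -/
theorem comp_onto (he : e ∈ Pt) (hx : x ∈ Pt) {v : Γ} (hv : v ∈ VV e) {x0 : M} (hx0 : x0 ∈ x) (hne : v • x0 ≠ x0)
    {w : Γ} (hw : w ∈ K VV e x) : ∃ g ∈ K VV x e, ∀ m : M, dd w m = dd v (dd g m) := by
  have hex : Mv VV e x := ⟨v, hv, x0, hx0, hne⟩
  have hinj := F.inj_of he hx hv hx0 hne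
  have hinjd : ∀ z ∈ x, ∀ z' ∈ x, dd v z = dd v z' → z = z' := by
    intro z hz z' hz' hzz
    have h3 : dd v (z - z') = 0 := by rw [map_sub, hzz, sub_self]
    exact sub_eq_zero.1 (hinj _ (sub_mem hz hz') ((F.dd_eq_zero_iff v _).1 h3))
  have hfe := F.fin he
  have hfx := F.fin hx
  have : Finite ↥(K VV e x) := Finite.of_injective (Subgroup.inclusion (K_le (VV := VV))) (Subgroup.inclusion_injective _)
  have : Finite ↥(K VV x e) := Finite.of_injective (Subgroup.inclusion (K_le (VV := VV))) (Subgroup.inclusion_injective _)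
  have hmem : ∀ g ∈ K VV x e, v * (g * v * g⁻¹) ∈ K VV e x := by
    intro g hg
    refine ⟨F.comm_mem he hx hv hg.1 hg.2, fun z hz => ?_⟩
    rw [← F.dd_eq_zero_iff, F.dd_comm he hx hv hg.1 hg.2, F.dd_self hx hg.1 hz, map_zero]
  let f : ↥(K VV x e) → ↥(K VV e x) := fun g => ⟨v * (g * v * (g : Γ)⁻¹), hmem g g.2⟩
  have hfd : ∀ g : ↥(K VV x e), ∀ m : M, dd ((f g : Γ)) m = dd v (dd (g : Γ) m) := fun g m =>
    F.dd_comm he hx hv g.2.1 g.2.2 m
  have hfinj : Function.Injective f := by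
    intro g g' hgg
    refine Subtype.ext (F.eq_of_dd hx g.2.1 g'.2.1 fun m => ?_)
    refine hinjd _ (F.dd_mem hx g.2.1 m) _ (F.dd_mem hx g'.2.1 m) ?_
    rw [← hfd, ← hfd, hgg]
  have hfs : Function.Surjective f := by
    have := Fintype.ofFinite ↥(K VV x e)
    have := Fintype.ofFinite ↥(K VV e x)
    refine ((Fintype.bijective_iff_injective_and_card f).2 ⟨hfinj, ?_⟩).2
    rw [← Nat.card_eq_fintype_card, ← Nat.card_eq_fintype_card]
    have h1 := F.card_K he hx hex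
    have h2 := F.card_K hx he (F.symm he hx hex)
    rw [F.cardVV_eq he hx, h2, F.card_eq hx he] at h1
    have hpos : 0 < Nat.card ↥e := Nat.card_pos
    exact Nat.eq_of_mul_eq_mul_left hpos h1
  obtain ⟨g, hg⟩ := hfs ⟨w, hw⟩
  refine ⟨g, g.2, fun m => ?_⟩
  rw [← hfd, hg]

omit [Finite M] in
/-- Conversely. -/
theorem comp_mem (he : e ∈ Pt) (hx : x ∈ Pt) {v : Γ} (hv : v ∈ VV e) {g : Γ} (hg : g ∈ K VV x e) :
    ∃ w ∈ K VV e x, ∀ m : M, dd w m = dd v (dd g m) := by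
  refine ⟨v * (g * v * g⁻¹), ⟨F.comm_mem he hx hv hg.1 hg.2, fun z hz => ?_⟩, F.dd_comm he hx hv hg.1 hg.2⟩
  rw [← F.dd_eq_zero_iff, F.dd_comm he hx hv hg.1 hg.2, F.dd_self hx hg.1 hz, map_zero]

end Frame

end Cfsg.Agent.Omega.NOThreeL.RBig.Pts
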