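import Cfsg.Agent.Omega.NOThreeL.RBig.Line

/-!
# NO-3L, box R (#19087 (4)): many axes

`Frame.many`: if `|V_p| > |p|`, then points `e`, `p` such that `V_e` centralises `p` are equal.
-/

set_option autoImplicit false

namespace Cfsg.Agent.Omega.NOThreeL.RBig.Pts

open Subgroup
open scoped Pointwise

variable {Γ M : Type*} [Group Γ] [AddCommGroup M] [DistribMulAction Γ M]
variable {X : Subgroup Γ} {Pt : Set (AddSubgroup M)} {VV : AddSubgroup M → Subgroup Γ} {p r s t e x y : AddSubgroup M}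

namespace Frame

variable (F : Frame X Pt VV) [Finite M]
include F

theorem finK (hp : p ∈ Pt) : Finite ↥(K VV p r) := by
  have := F.fin hp
  exact Finite.of_injective (Subgroup.inclusion (K_le (VV := VV))) (Subgroup.inclusion_injective _)

theorem cardK_eq (hp : p ∈ Pt) (hr : r ∈ Pt) (hs : s ∈ Pt) (h1 : Mv VV p r) (h2 : Mv VV p s) :
    Nat.card ↥(K VV p r) = Nat.card ↥(K VV p s) := by
  have e1 := F.card_K hp hr h1
  have e2 := F.card_K hp hs h2
  rw [e1] at e2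
  exact Nat.eq_of_mul_eq_mul_left Nat.card_pos e2

theorem K_eq_of_le (hp : p ∈ Pt) (hr : r ∈ Pt) (hs : s ∈ Pt) (h1 : Mv VV p r) (h2 : Mv VV p s)
    (hle : K VV p r ≤ K VV p s) : K VV p r = K VV p s := by
  have := F.finK (r := r) hp
  have := F.finK (r := s) hp
  exact Subgroup.eq_of_le_of_card_ge hle (F.cardK_eq hp hr hs h1 h2).ge

/-- (4)(a) -/
theorem K_eq (he : e ∈ Pt) (hp : p ∈ Pt) (hx : x ∈ Pt) (hep : ¬ Mv VV e p) (hxe : Mv VV x e) (hxp : Mv VV x p) :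
    K VV x e = K VV x p := by
  refine F.K_eq_of_le hx he hp hxe hxp fun g hg => ?_
  refine ⟨hg.1, ?_⟩
  by_contra hcon
  push Not at hcon
  obtain ⟨z0, hz0, hne⟩ := hcon
  obtain ⟨v, hv, a, ha, hva⟩ := F.symm hx he hxe
  refine hva ?_
  obtain ⟨z, hz, rfl⟩ := F.onto hx hp hg.1 hz0 hne ha
  have hge : g⁻¹ • e = e := smul_eq_of_fix fun w hw => by rw [inv_smul_eq_iff, hg.2 w hw]
  have h1 : g⁻¹ * v * g ∈ VV e := by
    have := F.conj g⁻¹ (inv_mem (F.le x hx hg.1)) e he v hv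
    rwa [hge, inv_inv] at this
  have h2 : (g⁻¹ * v * g) • z = z := not_mv hep h1 hz
  have h3 : v • (g • z) = g • z := by
    rw [mul_smul, mul_smul, inv_smul_eq_iff] at h2
    exact h2
  have h4 : v • z = z := not_mv hep hv hz
  rw [F.smul_eq g z, smul_add, h4] at h3
  exact add_left_cancel h3

/-- (4)(b), first part -/
theorem twin_elt (he : e ∈ Pt) (hp : p ∈ Pt) (hx : x ∈ Pt) (hep : ¬ Mv VV e p) (hxe : Mv VV x e) (hxp : Mv VV x p)
    {f : Γ} (hf : f ∈ K VV e x) : ∃ f' ∈ K VV p x, ∀ m : M, f • m = m ↔ f' • m = m := by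
  obtain ⟨v, hv, x0, hx0, hne⟩ := F.symm hx he hxe
  obtain ⟨h, hh, x1, hx1, hne1⟩ := F.symm hx hp hxp
  obtain ⟨g, hg, hfg⟩ := F.comp_onto he hx hv hx0 hne hf
  have hg' : g ∈ K VV x p := by rwa [← F.K_eq he hp hx hep hxe hxp]
  obtain ⟨w, hw, hwg⟩ := F.comp_mem hp hx hh hg'
  refine ⟨w, hw, fun m => ?_⟩
  rw [← F.dd_eq_zero_iff, ← F.dd_eq_zero_iff, hfg, hwg, F.dd_eq_zero_iff, F.dd_eq_zero_iff]
  have i1 := F.inj_of he hx hv hx0 hne (dd g m) (F.dd_mem hx hg.1 m)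
  have i2 := F.inj_of hp hx hh hx1 hne1 (dd g m) (F.dd_mem hx hg.1 m)
  constructor
  · intro h0
    rw [i1 h0, smul_zero]
  · intro h0
    rw [i2 h0, smul_zero]

omit [Finite M] in
/-- A nontrivial element of `V_p` moves some point. -/
theorem exists_moved (hp : p ∈ Pt) {f : Γ} (hf : f ∈ VV p) (h1 : f ≠ 1) : ∃ y ∈ Pt, ∃ m ∈ y, f • m ≠ m := by
  by_contra hcon
  push Not at hcon
  exact h1 (F.faith p hp f hf (F.top_le_ker hcon))

variable (hbig : ∃ p ∈ Pt, Nat.card ↥p < Nat.card ↥(VV p))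
include hbig

theorem K_ne_bot (he : e ∈ Pt) (hx : x ∈ Pt) (hex : Mv VV e x) : ∃ f ∈ K VV e x, f ≠ 1 := by
  obtain ⟨p, hp, hlt⟩ := hbig
  rw [F.card_eq hp he, F.cardVV_eq hp he, F.card_K he hx hex] at hlt
  have := F.finK (r := x) he
  have h1 : 1 < Nat.card ↥(K VV e x) := by
    by_contra hcon
    have : Nat.card ↥(K VV e x) ≤ 1 := by omega
    have h2 := Nat.mul_le_mul_left (Nat.card ↥e) this
    omega
  have := Finite.one_lt_card_iff_nontrivial.1 h1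
  obtain ⟨f, hf⟩ := exists_ne (1 : ↥(K VV e x))
  exact ⟨f, f.2, fun h => hf (Subtype.ext h)⟩

/-- (4)(b): the same movers. -/
theorem mv_iff_aux (he : e ∈ Pt) (hp : p ∈ Pt) (hep : ¬ Mv VV e p) (hs : s ∈ Pt) (hse : Mv VV s e) : Mv VV s p := by
  by_contra hsp
  have hps : ¬ Mv VV p s := fun h => hsp (F.symm hp hs h)
  -- every common mover has the same hyperplane as `s`
  have key : ∀ x ∈ Pt, Mv VV x e → Mv VV x p → K VV e x = K VV e s := by
    intro x hx hxe hxp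
    refine F.K_eq_of_le he hx hs (F.symm hx he hxe) (F.symm hs he hse) fun f hf => ⟨hf.1, fun m hm => ?_⟩
    obtain ⟨f', hf', hiff⟩ := F.twin_elt he hp hx hep hxe hxp hf
    exact (hiff m).2 (not_mv hps hf'.1 hm)
  obtain ⟨x, hx, hxe, hxp⟩ := F.common he hp
  obtain ⟨f, hf, hf1⟩ := F.K_ne_bot hbig he hx (F.symm hx he hxe)
  obtain ⟨y, hy, m, hm, hfm⟩ := F.exists_moved he hf.1 hf1
  obtain ⟨f', hf', hiff⟩ := F.twin_elt he hp hx hep hxe hxp hf
  have hye : Mv VV y e := F.symm he hy ⟨f, hf.1, m, hm, hfm⟩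
  have hyp : Mv VV y p := F.symm hp hy ⟨f', hf'.1, m, hm, fun h => hfm ((hiff m).2 h)⟩
  have h1 := key x hx hxe hxp
  have h2 := key y hy hye hyp
  rw [← h2] at h1
  rw [h1] at hf
  exact hfm (hf.2 m hm)

theorem mv_iff (he : e ∈ Pt) (hp : p ∈ Pt) (hep : ¬ Mv VV e p) (hs : s ∈ Pt) : Mv VV s e ↔ Mv VV s p :=
  ⟨F.mv_iff_aux hbig he hp hep hs, F.mv_iff_aux hbig hp he (fun h => hep (F.symm hp he h)) hs⟩

omit hbig in
/-- (4)(c): the twin of `a ∈ e` in `p`, seen from `s`. -/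
theorem exists_twin (he : e ∈ Pt) (hp : p ∈ Pt) (hs : s ∈ Pt) (hse : Mv VV s e) (hKe : K VV s e = K VV s p)
    {a : M} (ha : a ∈ e) : ∃ b ∈ p, ∀ g ∈ VV s, g • (a + b) = a + b := by
  obtain ⟨A, hAle, ⟨a1, ha1, x0, hx0, hne⟩, hreg⟩ := F.line s hs e he hse
  have hx00 : x0 ≠ 0 := fun h => hne (by rw [h, smul_zero])
  have ha1' : a1 ∈ VV s := hAle ha1
  have ha1p : ∃ z0 ∈ p, a1 • z0 ≠ z0 := by
    by_contra hcon
    push Not at hcon
    have h1 : a1 ∈ K VV s p := ⟨ha1', hcon⟩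
    rw [← hKe] at h1
    exact hne (h1.2 x0 hx0)
  obtain ⟨z0, hz0, hz0'⟩ := ha1p
  obtain ⟨b, hb, hbd⟩ := F.onto hs hp ha1' hz0 hz0' (F.dd_mem hs ha1' a)
  have hfix1 : a1 • (a + b) = a + b := by
    rw [← F.dd_eq_zero_iff, map_add, hbd, F.two]
  have hne1 : a1 ≠ 1 := fun h => hne (by rw [h, one_smul])
  have hfixA : ∀ c ∈ A, c • (a + b) = a + b := by
    rcases hreg (a + b) with h | h
    · exact h
    · exact absurd (h.2 a1 ha1 hfix1) hne1
  refine ⟨b, hb, fun g hg => ?_⟩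
  have hu := (hreg x0).resolve_left fun h => hne (h a1 ha1)
  obtain ⟨c, hc, hcx⟩ := hu.1 (dd g x0) (F.dd_mem hs hg x0)
  have hcV : c ∈ VV s := hAle hc
  -- `g c ∈ K s e`
  have hk : g * c ∈ K VV s e := by
    refine ⟨mul_mem hg hcV, ?_⟩
    by_contra hcon
    push Not at hcon
    obtain ⟨z, hz, hzne⟩ := hcon
    refine hx00 (F.inj_of hs he (mul_mem hg hcV) hz hzne x0 hx0 ?_)
    rw [← F.dd_eq_zero_iff, F.dd_mul hs hg hcV]
    have h1 : dd c x0 = dd g x0 := by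
      have := F.smul_eq c x0
      rw [hcx] at this
      exact (add_left_cancel this).symm
    rw [h1, F.two]
  have hk' : g * c ∈ K VV s p := by rwa [← hKe]
  have h2 : (g * c) • (a + b) = a + b := by rw [smul_add, hk.2 a ha, hk'.2 b hb]
  rw [mul_smul, hfixA c hc] at h2
  exact h2

omit hbig in
theorem twin_unique (hp : p ∈ Pt) (hs : s ∈ Pt) {w : Γ} (hw : w ∈ VV s) {z0 : M} (hz0 : z0 ∈ p)
    (hne : w • z0 ≠ z0) {a b b' : M} (hb : b ∈ p) (hb' : b' ∈ p) (h : w • (a + b) = a + b)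
    (h' : w • (a + b') = a + b') : b = b' := by
  have h1 := F.inj_of hs hp hw hz0 hne (b - b') (sub_mem hb hb') ?_
  · exact sub_eq_zero.1 h1
  · have e1 : b - b' = (a + b) - (a + b') := by abel
    rw [e1, smul_sub, h, h']

/-- (4)(c): link. -/
theorem link (he : e ∈ Pt) (hp : p ∈ Pt) (hep : ¬ Mv VV e p) (hs : s ∈ Pt) (hse : Mv VV s e)
    (hy : y ∈ Pt) (hye : Mv VV y e) (hK : K VV e s ≠ K VV e y) {a b : M} (ha : a ∈ e) (hb : b ∈ p)
    (hab : ∀ g ∈ VV s, g • (a + b) = a + b) : ∀ g ∈ VV y, g • (a + b) = a + b := by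
  have hes := F.symm hs he hse
  have hey := F.symm hy he hye
  have hyp : Mv VV y p := (F.mv_iff hbig he hp hep hy).1 hye
  have hsp : Mv VV s p := (F.mv_iff hbig he hp hep hs).1 hse
  -- `f ∈ K e s`, `f ∉ K e y`
  obtain ⟨f, hf, hfn⟩ : ∃ f ∈ K VV e s, f ∉ K VV e y := by
    by_contra hcon
    push Not at hcon
    exact hK (F.K_eq_of_le he hs hy hes hey hcon)
  obtain ⟨v, hv, x0, hx0, hne⟩ := hes
  obtain ⟨g0, hg0, hfg⟩ := F.comp_onto he hs hv hx0 hne hf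
  obtain ⟨m, hm, hfm⟩ : ∃ m ∈ y, f • m ≠ m := by
    by_contra hcon
    push Not at hcon
    exact hfn ⟨hf.1, hcon⟩
  have hg0m : g0 • m ≠ m := by
    intro h0
    rw [← F.dd_eq_zero_iff] at h0
    refine hfm ((F.dd_eq_zero_iff f m).1 ?_)
    rw [hfg, h0, map_zero]
  have hsy : Mv VV s y := ⟨g0, hg0.1, m, hm, hg0m⟩
  -- `g' ∈ K s y`, `g' ∉ K s e`
  obtain ⟨g', hg', hg'n⟩ : ∃ g' ∈ K VV s y, g' ∉ K VV s e := by
    by_contra hcon
    push Not at hcon
    have h1 := F.K_eq_of_le hs hy he hsy hse hcon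
    rw [← h1] at hg0
    exact hg0m (hg0.2 m hm)
  obtain ⟨z, hz, hg'z⟩ : ∃ z ∈ e, g' • z ≠ z := by
    by_contra hcon
    push Not at hcon
    exact hg'n ⟨hg'.1, hcon⟩
  obtain ⟨h, hh, s0, hs0, hhs0⟩ := F.symm hs hy hsy
  obtain ⟨w, hw, hwg⟩ := F.comp_mem hy hs hh hg'
  have hwz : w • z ≠ z := by
    intro h0
    rw [← F.dd_eq_zero_iff, hwg, F.dd_eq_zero_iff] at h0
    have := F.inj_of hy hs hh hs0 hhs0 (dd g' z) (F.dd_mem hs hg'.1 z) h0
    exact hg'z ((F.dd_eq_zero_iff g' z).1 this)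
  have hwab : w • (a + b) = a + b := by
    rw [← F.dd_eq_zero_iff, hwg, (F.dd_eq_zero_iff g' (a + b)).2 (hab g' hg'.1), map_zero]
  have hKy := F.K_eq he hp hy hep hye hyp
  obtain ⟨z1, hz1, hwz1⟩ : ∃ z1 ∈ p, w • z1 ≠ z1 := by
    by_contra hcon
    push Not at hcon
    have h1 : w ∈ K VV y p := ⟨hw.1, hcon⟩
    rw [← hKy] at h1
    exact hwz (h1.2 z hz)
  obtain ⟨b', hb', hab'⟩ := F.exists_twin he hp hy hye hKy ha
  have hbb : b = b' := F.twin_unique hp hy hw.1 hz1 hwz1 hb hb' hwab (hab' w hw.1)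
  rw [hbb]
  exact hab'

/-- (4)(c): the twin does not depend on `s`. -/
theorem const (he : e ∈ Pt) (hp : p ∈ Pt) (hep : ¬ Mv VV e p) (hs : s ∈ Pt) (hse : Mv VV s e)
    (hy : y ∈ Pt) (hye : Mv VV y e) {a b : M} (ha : a ∈ e) (hb : b ∈ p)
    (hab : ∀ g ∈ VV s, g • (a + b) = a + b) : ∀ g ∈ VV y, g • (a + b) = a + b := by
  by_cases hK : K VV e s = K VV e y
  · obtain ⟨f, hf, hf1⟩ := F.K_ne_bot hbig he hs (F.symm hs he hse)
    obtain ⟨w, hw, m, hm, hfm⟩ := F.exists_moved he hf.1 hf1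
    have hwe : Mv VV w e := F.symm he hw ⟨f, hf.1, m, hm, hfm⟩
    have hKw : K VV e s ≠ K VV e w := fun h => by
      rw [h] at hf
      exact hfm (hf.2 m hm)
    have h1 := F.link hbig he hp hep hs hse hw hwe hKw ha hb hab
    exact F.link hbig he hp hep hw hwe hy hye (by rw [← hK]; exact hKw.symm) ha hb h1
  · exact F.link hbig he hp hep hs hse hy hye hK ha hb hab

/-- **(4), MANY AXES**: if `V_e` centralises `p`, then `e = p`. -/
theorem many (he : e ∈ Pt) (hp : p ∈ Pt) (hep : ¬ Mv VV e p) : e = p := by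
  have hpe : ¬ Mv VV p e := fun h => hep (F.symm hp he h)
  obtain ⟨x, hx, hxe, hxp⟩ := F.common he hp
  have hle : e ≤ p := by
    intro a ha
    obtain ⟨b, hb, hab⟩ := F.exists_twin he hp hx hxe (F.K_eq he hp hx hep hxe hxp) ha
    have h0 : a + b = 0 := by
      refine F.fixed _ fun s hs v hv => ?_
      by_cases hse : Mv VV s e
      · exact F.const hbig he hp hep hx hxe hs hse ha hb hab v hv
      · have hsp : ¬ Mv VV s p := fun h => hse ((F.mv_iff hbig he hp hep hs).2 h)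
        rw [smul_add, not_mv hse hv ha, not_mv hsp hv hb]
    have h1 : a = b := by
      have h2 := F.two b
      rw [← h2] at h0
      exact add_right_cancel h0
    rwa [h1]
  exact AddSubgroup.eq_of_le_of_card_ge hle (F.card_eq he hp).ge

end Frame

end Cfsg.Agent.Omega.NOThreeL.RBig.Pts
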