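import Cfsg.Agent.Omega.NOThreeL.RBig.Pts

/-!
# NO-3L, box R (#19087 (3)(c)-(e)): symmetry of "`V_p` moves `r`", lines, common non-neighbours
-/

set_option autoImplicit false

namespace Cfsg.Agent.Omega.NOThreeL.RBig.Pts

open Subgroup
open scoped Pointwise

variable {Γ M : Type*} [Group Γ] [AddCommGroup M] [DistribMulAction Γ M]
variable {X : Subgroup Γ} {Pt : Set (AddSubgroup M)} {VV : AddSubgroup M → Subgroup Γ} {p r s t e x y : AddSubgroup M}

namespace Frame

variable (F : Frame X Pt VV)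
include F

/-- The points moving `p` span `M`. -/
theorem span_mv (hp : p ∈ Pt) : sSup {s | s ∈ Pt ∧ Mv VV s p} = ⊤ := by
  set O := sSup {s | s ∈ Pt ∧ Mv VV s p} with hO
  -- `O` is invariant
  have key : ∀ t ∈ Pt, ∀ g ∈ VV t, ∀ m ∈ O, g • m ∈ O := by
    intro t ht g hg
    by_cases h : Mv VV t p
    · intro m hm
      rw [F.smul_eq g m]
      exact add_mem hm ((le_sSup (show t ∈ {s | s ∈ Pt ∧ Mv VV s p} from ⟨ht, h⟩)) (F.dd_mem ht hg m))
    · have hgp : g • p = p := smul_eq_of_fix fun z hz => not_mv h hg hz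
      have hle : O ≤ (g⁻¹ • O : AddSubgroup M) := by
        refine sSup_le ?_
        rintro s ⟨hs, hsp⟩ z hz
        have hgs : g • s ∈ Pt := F.inv g (F.le t ht hg) s hs
        have h2 : Mv VV (g • s) p := by
          have := (F.mv_smul (r := p) (F.le t ht hg) hs).2 hsp
          rwa [hgp] at this
        have h3 : g • z ∈ O := (le_sSup (show g • s ∈ {s | s ∈ Pt ∧ Mv VV s p} from ⟨hgs, h2⟩)) (mem_smul hz)
        exact mem_smul_iff.2 ⟨g • z, h3, inv_smul_smul g z⟩
      intro m hm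
      obtain ⟨z, hz, rfl⟩ := mem_smul_iff.1 (hle hm)
      rwa [smul_inv_smul]
  obtain ⟨s, hs, hsp⟩ := F.exists_mv' hp
  have hsO : s ≤ O := le_sSup (show s ∈ {s | s ∈ Pt ∧ Mv VV s p} from ⟨hs, hsp⟩)
  have hinv : ∀ g ∈ ⨆ s ∈ Pt, VV s, (∀ m ∈ O, g • m ∈ O) ∧ ∀ m ∈ O, g⁻¹ • m ∈ O := by
    intro g hg
    refine induct (Pt := Pt) (VV := VV) (P := fun g : Γ => (∀ m ∈ O, g • m ∈ O) ∧ ∀ m ∈ O, g⁻¹ • m ∈ O)
      ⟨fun m hm => by rwa [one_smul], fun m hm => by rwa [inv_one, one_smul]⟩ ?_ ?_ ?_ hg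
    · rintro a b ⟨ha, ha'⟩ ⟨hb, hb'⟩
      refine ⟨fun m hm => ?_, fun m hm => ?_⟩
      · rw [mul_smul]
        exact ha _ (hb _ hm)
      · rw [mul_inv_rev, mul_smul]
        exact hb' _ (ha' _ hm)
    · rintro a ⟨ha, ha'⟩
      exact ⟨ha', fun m hm => by rw [inv_inv]; exact ha m hm⟩
    · intro t ht v hv
      refine ⟨key t ht v hv, fun m hm => ?_⟩
      rw [F.inv_eq ht hv]
      exact key t ht v hv m hm
  rw [eq_top_iff, ← F.span]
  refine sSup_le fun t ht => ?_
  obtain ⟨g, hg, rfl⟩ := F.trans s hs t ht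
  intro z hz
  obtain ⟨w, hw, rfl⟩ := mem_smul_iff.1 hz
  exact (hinv g hg).1 w (hsO hw)

variable [Finite M]

/-- **Symmetry** (3)(c). -/
theorem symm (hp : p ∈ Pt) (hr : r ∈ Pt) (h : Mv VV p r) : Mv VV r p := by
  by_contra hno
  have hfix : ∀ g ∈ VV r, ∀ z ∈ p, g • z = z := fun g hg z hz => not_mv hno hg hz
  obtain ⟨v, hv, y0, hy0, hvy0⟩ := h
  have hcard : Nat.card ↥p = Nat.card ↥r := F.card_eq hp hr
  -- Step A
  have hA : ∀ z ∈ r, v • z = z → z = 0 := by
    by_contra hcon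
    push Not at hcon
    obtain ⟨z0, hz0, hvz0, hz0'⟩ := hcon
    obtain ⟨s, hs, hrs⟩ := F.exists_mv hr
    obtain ⟨A, hAle, ⟨a, ha, u, hu, hau⟩, hreg⟩ := F.line r hr s hs hrs
    have hu' := (hreg u).resolve_left fun h => hau (h a ha)
    obtain ⟨b, hb, hbu⟩ := hu'.1 y0 hy0
    have hb' : b ∈ VV r := hAle hb
    have hdb : dd b u = y0 := by
      have := F.smul_eq b u
      rw [hbu] at this
      exact (add_left_cancel this).symm
    set c := v * (b * v * b⁻¹) with hc
    have hcV : c ∈ VV p := F.comm_mem hp hr hv hb' (hfix b hb')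
    have hcd : ∀ m, dd c m = dd v (dd b m) := F.dd_comm hp hr hv hb' (hfix b hb')
    -- `c` fixes every point moving `p`
    have hcfix : ∀ s' ∈ Pt, Mv VV s' p → ∀ z ∈ s', c • z = z := by
      intro s' hs' hs'p
      refine (F.bij p hp s' hs' hs'p c hcV).resolve_right fun hinj => ?_
      -- `s' → dd v '' r`
      have h1 : Nat.card ↥s' ≤ Nat.card ↥((AddSubgroup.map (dd v : M →+ M) r)) := by
        refine Nat.card_le_card_of_injective
          (fun z : ↥s' => (⟨dd c (z : M), ?_⟩ : ↥(AddSubgroup.map (dd v : M →+ M) r))) ?_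
        · rw [hcd]
          exact AddSubgroup.mem_map_of_mem _ (F.dd_mem hr hb' _)
        · intro z z' hzz
          have h2 : dd c (z : M) = dd c (z' : M) := congrArg Subtype.val hzz
          have h3 : dd c ((z : M) - (z' : M)) = 0 := by rw [map_sub, h2, sub_self]
          have h4 := hinj ((z : M) - (z' : M)) (sub_mem z.2 z'.2) ((F.dd_eq_zero_iff c _).1 h3)
          exact Subtype.ext (sub_eq_zero.1 h4)
      have h2 : Nat.card ↥((AddSubgroup.map (dd v : M →+ M) r)) < Nat.card ↥r := by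
        let f : ↥r → ↥((AddSubgroup.map (dd v : M →+ M) r)) := fun z => ⟨dd v (z : M), AddSubgroup.mem_map_of_mem _ z.2⟩
        have hf : Function.Surjective f := by
          rintro ⟨w, hw⟩
          obtain ⟨z, hz, rfl⟩ := AddSubgroup.mem_map.1 hw
          exact ⟨⟨z, hz⟩, rfl⟩
        refine lt_of_le_of_ne (Nat.card_le_card_of_surjective f hf) fun heq => ?_
        have hbij : Function.Bijective f := by
          have := Fintype.ofFinite ↥r
          have := Fintype.ofFinite ↥((AddSubgroup.map (dd v : M →+ M) r))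
          rw [Fintype.bijective_iff_surjective_and_card]
          refine ⟨hf, ?_⟩
          rw [← Nat.card_eq_fintype_card, ← Nat.card_eq_fintype_card, heq]
        have h5 : f ⟨z0, hz0⟩ = f 0 := by
          apply Subtype.ext
          change dd v z0 = dd v 0
          rw [map_zero, F.dd_eq_zero_iff]
          exact hvz0
        exact hz0' (congrArg Subtype.val (hbij.1 h5))
      have h3 := F.card_eq hs' hr
      omega
    -- so `c` is trivial
    have hct : ∀ m : M, dd c m = 0 := by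
      have h1 : sSup {s | s ∈ Pt ∧ Mv VV s p} ≤ (dd c : M →+ M).ker := sSup_le fun s' hs' z hz => by
        rw [AddMonoidHom.mem_ker, F.dd_eq_zero_iff]
        exact hcfix s' hs'.1 hs'.2 z hz
      rw [F.span_mv hp] at h1
      exact fun m => h1 (AddSubgroup.mem_top m)
    refine hvy0 ((F.dd_eq_zero_iff v y0).1 ?_)
    rw [← hdb, ← hcd, hct]
  -- Step B
  have hinjd : ∀ z ∈ r, ∀ z' ∈ r, dd v z = dd v z' → z = z' := by
    intro z hz z' hz' hzz
    have h3 : dd v (z - z') = 0 := by rw [map_sub, hzz, sub_self]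
    exact sub_eq_zero.1 (hA _ (sub_mem hz hz') ((F.dd_eq_zero_iff v _).1 h3))
  let f : ↥(VV r) → ↥(VV p) := fun g => ⟨v * (g * v * (g : Γ)⁻¹), F.comm_mem hp hr hv g.2 (hfix g g.2)⟩
  have hfd : ∀ g : ↥(VV r), ∀ m, dd ((f g : Γ)) m = dd v (dd (g : Γ) m) := fun g m =>
    F.dd_comm hp hr hv g.2 (hfix g g.2) m
  have hfinj : Function.Injective f := by
    intro g g' hgg
    refine Subtype.ext (F.eq_of_dd hr g.2 g'.2 fun m => ?_)
    refine hinjd _ (F.dd_mem hr g.2 m) _ (F.dd_mem hr g'.2 m) ?_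
    rw [← hfd, ← hfd, hgg]
  have hfin : ∀ q ∈ Pt, Finite ↥(VV q) := fun q hq =>
    Finite.of_injective (fun w : ↥(VV q) => fun m : M => dd (w : Γ) m) fun w w' hww =>
      Subtype.ext (F.eq_of_dd hq w.2 w'.2 fun m => congrFun hww m)
  have := hfin r hr
  have := hfin p hp
  have hfs : Function.Surjective f := by
    have := Fintype.ofFinite ↥(VV r)
    have := Fintype.ofFinite ↥(VV p)
    refine ((Fintype.bijective_iff_injective_and_card f).2 ⟨hfinj, ?_⟩).2
    rw [← Nat.card_eq_fintype_card, ← Nat.card_eq_fintype_card, F.cardVV_eq hr hp]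
  obtain ⟨g, hg⟩ := hfs ⟨v, hv⟩
  refine hvy0 ((F.dd_eq_zero_iff v y0).1 ?_)
  have h1 := hfd g y0
  rw [hg] at h1
  rw [show dd v y0 = dd v (dd (g : Γ) y0) from h1, F.dd_self hr g.2 hy0, map_zero]

theorem symm_iff (hp : p ∈ Pt) (hr : r ∈ Pt) : Mv VV p r ↔ Mv VV r p := ⟨F.symm hp hr, F.symm hr hp⟩

end Frame

end Cfsg.Agent.Omega.NOThreeL.RBig.Pts
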