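import Cfsg.Agent.Omega.NOThreeL.ThmAx

/-!
# NO-3L, box R, case (A), `q > 2` (#19602, helper797): (F'), the graph of axes, (P), (M), (2)

`AxSys A TT YY` : `H` acts on the finite elementary abelian 2-group `M`; `A` is a set of subgroups ("axes") of `M`,
permuted transitively by `H`; `TT g` centralises `g`, `[M, TT g] ≤ YY g ≤ g`, and `[u, TT g] = YY g` for `u ∉ g`.
`g ~ g'` if `YY g ≰ g'`.  For a component `c = Cp K`: `N_c = NC K`, `U_c = UC K`.

Let `z` be fixed by a Sylow 2-subgroup of `H`, `H = N C_H(z)`, and not fixed by `N`.  Then: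
* `Sit.inf` : `u ∈ U_c` and `u ∈ g` for all `g ∈ c` implies `u = 0`;
* `Sit.orbit` : the `N_c`-orbit of `z` is `(z + U_c) - I_c`;
* `Sit.mem` : `z ∈ U_c + I_c`; **`Sit.trans`** : `N_c` is transitive on `U_c - {0}`;
* `Sit.mem_all` : `z ∈ [M, N] + C_M(N)`.
-/

set_option autoImplicit false
set_option linter.unusedSectionVars false

namespace Cfsg.Agent.Omega.NOThreeL.RBig.Trans

open Subgroup
open Cfsg.Agent.Omega.NOThreeL.ThmAx (mem_smul smul_eq_of)
open scoped Pointwise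

variable {H M : Type*} [Group H] [AddCommGroup M] [DistribMulAction H M]

/-- The axis system. -/
structure AxSys (A : Set (AddSubgroup M)) (TT : AddSubgroup M → Subgroup H) (YY : AddSubgroup M → AddSubgroup M) :
    Prop where
  char2 : ∀ m : M, m + m = 0
  inv : ∀ x : H, ∀ g ∈ A, x • g ∈ A
  conjT : ∀ x : H, ∀ g ∈ A, ∀ t ∈ TT g, x * t * x⁻¹ ∈ TT (x • g)
  conjY : ∀ x : H, ∀ g ∈ A, YY (x • g) = x • YY g
  le : ∀ g ∈ A, YY g ≤ g
  fix : ∀ g ∈ A, ∀ t ∈ TT g, ∀ u ∈ g, t • u = u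
  quad : ∀ g ∈ A, ∀ t ∈ TT g, ∀ u : M, t • u + u ∈ YY g
  full : ∀ g ∈ A, ∀ u : M, u ∉ g → ∀ y ∈ YY g, ∃ t ∈ TT g, t • u = u + y
  symm : ∀ g ∈ A, ∀ g' ∈ A, ¬ YY g ≤ g' → ¬ YY g' ≤ g
  big : ∀ g ∈ A, ∀ r : M, ∃ s ∈ YY g, s ≠ 0 ∧ s ≠ r
  trans : ∀ g ∈ A, ∀ g' ∈ A, ∃ x : H, x • g = g'

section defs

variable (A : Set (AddSubgroup M)) (TT : AddSubgroup M → Subgroup H) (YY : AddSubgroup M → AddSubgroup M)

/-- a walk of length `n` -/
inductive Walk : ℕ → AddSubgroup M → AddSubgroup M → Prop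
  | zero (g : AddSubgroup M) (hg : g ∈ A) : Walk 0 g g
  | step {n : ℕ} {k g g' : AddSubgroup M} (h : Walk n k g) (hg' : g' ∈ A) (ha : ¬ YY g ≤ g') : Walk (n + 1) k g'

/-- the component of `K` -/
def Cp (K : AddSubgroup M) : Set (AddSubgroup M) := {g | ∃ n, Walk A YY n K g}

/-- `N_c` -/
def NC (K : AddSubgroup M) : Subgroup H := ⨆ g ∈ Cp A YY K, TT g

/-- `U_c` -/
def UC (K : AddSubgroup M) : AddSubgroup M := ⨆ g ∈ Cp A YY K, YY g

/-- `N` -/
def NN : Subgroup H := ⨆ g ∈ A, TT g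

end defs

namespace AxSys

variable {A : Set (AddSubgroup M)} {TT : AddSubgroup M → Subgroup H} {YY : AddSubgroup M → AddSubgroup M}
  (D : AxSys A TT YY) {g g' K : AddSubgroup M}
include D

theorem neg_eq (u : M) : -u = u := neg_eq_of_add_eq_zero_left (D.char2 u)

theorem add_add_self (u v : M) : u + v + v = u := by rw [add_assoc, D.char2, add_zero]

theorem mem_iff (hg : g ∈ A) {u : M} : u ∈ g ↔ ∀ t ∈ TT g, t • u = u := by
  constructor
  · exact fun hu t ht => D.fix g hg t ht u hu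
  · intro h
    by_contra hu
    obtain ⟨s, hs, hs0, -⟩ := D.big g hg 0
    obtain ⟨t, ht, htu⟩ := D.full g hg u hu s hs
    rw [h t ht] at htu
    exact hs0 (left_eq_add.1 htu)

/-- `g' ≁ g`: `T_{g'}` normalises `g` -/
theorem smul_eq (hg' : g' ∈ A) (h : YY g' ≤ g) {t : H} (ht : t ∈ TT g') : t • g = g := by
  refine smul_eq_of (P := TT g') (fun t ht u hu => ?_) ht
  rw [mem_smul] at hu
  have h1 := h (D.quad g' hg' t ht (t⁻¹ • u))
  have h2 := g.add_mem h1 hu
  rwa [D.add_add_self, smul_inv_smul] at h2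

theorem self_smul (hg : g ∈ A) {t : H} (ht : t ∈ TT g) : t • g = g := D.smul_eq hg (D.le g hg) ht

theorem walk_mem {n : ℕ} (hK : K ∈ A) (h : Walk A YY n K g) : g ∈ A := by
  cases h with
  | zero => exact hK
  | step _ hg' _ => exact hg'

theorem walk_mem' {n : ℕ} (h : Walk A YY n K g) : K ∈ A ∧ g ∈ A := by
  induction h with
  | zero g hg => exact ⟨hg, hg⟩
  | step _ hg' _ ih => exact ⟨ih.1, hg'⟩

theorem walk_smul (x : H) {n : ℕ} (h : Walk A YY n K g) : Walk A YY n (x • K) (x • g) := by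
  induction h with
  | zero g hg => exact Walk.zero _ (D.inv x _ hg)
  | step h' hg' ha ih =>
    refine Walk.step ih (D.inv x _ hg') fun h1 => ha fun u hu => ?_
    have h2 := (D.walk_mem' h').2
    rw [D.conjY x _ h2] at h1
    have h3 := h1 (AddSubgroup.smul_mem_pointwise_smul u x _ hu)
    rwa [mem_smul, inv_smul_smul] at h3

omit D in
theorem walk_trans {m n : ℕ} (h1 : Walk A YY m K g) (h2 : Walk A YY n g g') : Walk A YY (m + n) K g' := by
  induction h2 with
  | zero g hg => exact h1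
  | step _ hg' ha ih => exact Walk.step (ih h1) hg' ha

theorem walk_symm {n : ℕ} (h : Walk A YY n K g) : ∃ m, Walk A YY m g K := by
  induction h with
  | zero g hg => exact ⟨0, Walk.zero _ hg⟩
  | @step n k g g' h' hg' ha ih =>
    obtain ⟨m, hm⟩ := ih
    have h2 := (D.walk_mem' h').2
    exact ⟨_, walk_trans (Walk.step (Walk.zero _ hg') h2 (D.symm _ h2 _ hg' ha)) hm⟩

theorem mem_A (h : g ∈ Cp A YY K) : g ∈ A := by
  obtain ⟨n, hn⟩ := h
  exact (D.walk_mem' hn).2

omit D in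
theorem self_mem (hK : K ∈ A) : K ∈ Cp A YY K := ⟨0, Walk.zero _ hK⟩

theorem Cp_eq (h : g ∈ Cp A YY K) : Cp A YY g = Cp A YY K := by
  obtain ⟨n, hn⟩ := h
  obtain ⟨m, hm⟩ := D.walk_symm hn
  ext k
  constructor
  · rintro ⟨l, hl⟩
    exact ⟨_, walk_trans hn hl⟩
  · rintro ⟨l, hl⟩
    exact ⟨_, walk_trans hm hl⟩

omit D in
theorem adj_mem (hK : K ∈ A) (hg : g ∈ A) (h : ¬ YY K ≤ g) : g ∈ Cp A YY K :=
  ⟨1, Walk.step (Walk.zero _ hK) hg h⟩

theorem le_of_not_mem (hK : K ∈ A) (hg : g ∈ A) (h : g ∉ Cp A YY K) : YY K ≤ g := by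
  by_contra h1
  exact h (adj_mem hK hg h1)

theorem smul_Cp (x : H) : Cp A YY (x • K) = {g | x⁻¹ • g ∈ Cp A YY K} := by
  ext g
  constructor
  · rintro ⟨n, hn⟩
    have h1 := D.walk_smul x⁻¹ hn
    rw [inv_smul_smul] at h1
    exact ⟨n, h1⟩
  · rintro ⟨n, hn⟩
    have h1 := D.walk_smul x hn
    rw [smul_inv_smul] at h1
    exact ⟨n, h1⟩

/-- `N` fixes the components -/
theorem NN_Cp (hK : K ∈ A) {n : H} (hn : n ∈ NN A TT) : n • K ∈ Cp A YY K := by
  -- the set of `n` fixing all components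
  have key : ∀ n ∈ NN A TT, ∀ K ∈ A, n • K ∈ Cp A YY K := by
    let X : Subgroup H :=
      { carrier := {n | ∀ K ∈ A, n • K ∈ Cp A YY K}
        one_mem' := fun K hK => by
          rw [one_smul]
          exact self_mem hK
        mul_mem' := fun {a b} ha hb K hK => by
          have h1 := ha _ (D.inv b K hK)
          rw [← mul_smul, D.Cp_eq (hb K hK)] at h1
          exact h1
        inv_mem' := fun {a} ha K hK => by
          have h1 := ha _ (D.inv a⁻¹ K hK)
          rw [smul_inv_smul] at h1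
          rw [D.Cp_eq h1]
          exact self_mem (D.inv a⁻¹ K hK) }
    have h : NN A TT ≤ X := iSup₂_le fun g hg t ht K hK => by
      by_cases h1 : YY g ≤ K
      · rw [D.smul_eq hg h1 ht]
        exact self_mem hK
      · have h2 := D.symm _ hg _ hK h1
        have h3 : ¬ YY g ≤ t • K := fun h3 => h1 fun u hu => by
          have h4 := h3 (show t • u ∈ YY g from ?_)
          · rwa [mem_smul, inv_smul_smul] at h4
          · have h5 := D.conjY t g hg
            rw [D.self_smul hg ht] at h5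
            rw [h5]
            exact AddSubgroup.smul_mem_pointwise_smul u t _ hu
        exact ⟨_, Walk.step (Walk.step (Walk.zero _ hK) hg h2) (D.inv t K hK) h3⟩
    exact fun n hn => h hn
  exact key n hn K hK

theorem TT_le_NC (h : g ∈ Cp A YY K) : TT g ≤ NC A TT YY K := le_iSup₂_of_le g h le_rfl

theorem NC_le_NN : NC A TT YY K ≤ NN A TT := iSup₂_le fun g hg => le_iSup₂_of_le g (D.mem_A hg) le_rfl

omit D in
theorem YY_le_UC (h : g ∈ Cp A YY K) : YY g ≤ UC A YY K := le_iSup₂_of_le g h le_rfl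

/-- **(P)** -/
theorem P {y : M} (hK : K ∈ A) (hy : y ∈ K) (h : ∀ g ∈ A, ¬ YY K ≤ g → y ∈ g) : ∀ g ∈ Cp A YY K, y ∈ g := by
  have key : ∀ n g, Walk A YY n K g → y ∈ g := by
    intro n
    induction n using Nat.strong_induction_on with
    | _ n ih =>
      intro g hg
      by_contra hyg
      cases hg with
      | zero => exact hyg hy
      | @step m _ g₁ _ hg₁ hgA ha =>
        have hg₁A := (D.walk_mem' hg₁).2
        have hns : YY K ≤ g := by
          by_contra h1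
          exact hyg (h g hgA h1)
        have hsn : YY g ≤ K := by
          by_contra h1
          exact D.symm _ hgA _ hK h1 hns
        -- `T_g` fixes `K`
        have h2 : ∀ t ∈ TT g, y ∈ t • g₁ := by
          intro t ht
          have h3 := D.walk_smul t hg₁
          rw [D.smul_eq hgA hsn ht] at h3
          exact ih m (Nat.lt_succ_self m) _ h3
        refine D.symm _ hg₁A _ hgA ha fun w hw => ?_
        obtain ⟨t, ht, htw⟩ := D.full g hgA y hyg w hw
        have h4 := h2 t⁻¹ (inv_mem ht)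
        rw [mem_smul, inv_inv] at h4
        have h5 := h2 1 (one_mem _)
        rw [one_smul] at h5
        have h6 := g₁.add_mem h4 h5
        rw [htw, add_comm y w, D.add_add_self] at h6
        exact h6
  rintro g ⟨n, hn⟩
  exact key n g hn

/-- Some `N_c`-conjugate of `u` is outside `K`. -/
theorem exists_not_mem {u : M} (hK : K ∈ A) {g₀ : AddSubgroup M} (hg₀ : g₀ ∈ Cp A YY K) (hu : u ∉ g₀) :
    ∃ n ∈ NC A TT YY K, n • u ∉ K := by
  by_contra hcon
  push Not at hcon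
  have h1 : ∀ g ∈ A, ¬ YY K ≤ g → ∀ n ∈ NC A TT YY K, n • u ∈ g := by
    intro g hg hadj n hn
    by_contra hng
    refine D.symm _ hK _ hg hadj fun w hw => ?_
    obtain ⟨t, ht, htw⟩ := D.full g hg _ hng w hw
    have h2 := hcon (t * n) (mul_mem (D.TT_le_NC (adj_mem hK hg hadj) ht) hn)
    rw [mul_smul, htw] at h2
    have h3 := K.add_mem h2 (hcon n hn)
    rwa [add_comm (n • u) w, D.add_add_self] at h3
  refine hu (D.P hK ?_ (fun g hg hadj => ?_) g₀ hg₀)
  · have := hcon 1 (one_mem _)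
    rwa [one_smul] at this
  · have := h1 g hg hadj 1 (one_mem _)
    rwa [one_smul] at this

/-- fixed by `N` -/
theorem fixed_iff {u : M} : (∀ g ∈ A, u ∈ g) ↔ ∀ n ∈ NN A TT, n • u = u := by
  constructor
  · intro h n hn
    have : NN A TT ≤ MulAction.stabilizer H u := iSup₂_le fun g hg t ht => D.fix g hg t ht u (h g hg)
    exact this hn
  · intro h g hg
    rw [D.mem_iff hg]
    exact fun t ht => h t ((le_iSup₂_of_le g hg le_rfl : TT g ≤ NN A TT) ht)

theorem NC_fix {u : M} (h : ∀ g ∈ Cp A YY K, u ∈ g) {n : H} (hn : n ∈ NC A TT YY K) : n • u = u := by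
  have : NC A TT YY K ≤ MulAction.stabilizer H u := iSup₂_le fun g hg t ht => D.fix g (D.mem_A hg) t ht u (h g hg)
  exact this hn

/-- `N_c` moves by `U_c` -/
theorem NC_quad {n : H} (hn : n ∈ NC A TT YY K) : ∀ u : M, n • u + u ∈ UC A YY K := by
  have key : ∀ g ∈ Cp A YY K, ∀ t ∈ TT g, ∀ u : M, t • u + u ∈ UC A YY K := fun g hg t ht u =>
    YY_le_UC hg (D.quad g (D.mem_A hg) t ht u)
  let X : Subgroup H :=
    { carrier := {n | ∀ u : M, n • u + u ∈ UC A YY K}
      one_mem' := fun u => by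
        rw [one_smul, D.char2]
        exact zero_mem _
      mul_mem' := fun {a b} ha hb u => by
        have h1 := add_mem (ha (b • u)) (hb u)
        rw [← add_assoc, D.add_add_self] at h1
        rwa [mul_smul]
      inv_mem' := fun {a} ha u => by
        have h1 := ha (a⁻¹ • u)
        rw [smul_inv_smul, add_comm] at h1
        exact h1 }
  exact (iSup₂_le fun g hg t ht u => key g hg t ht u : NC A TT YY K ≤ X) hn

/-- `U_c ≤ g` for `g ∉ c` -/
theorem UC_le (hg : g ∈ A) (h : g ∉ Cp A YY K) : UC A YY K ≤ g := by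
  refine iSup₂_le fun k hk => ?_
  refine D.le_of_not_mem (D.mem_A hk) hg ?_
  rwa [D.Cp_eq hk]

theorem NN_normal : (NN A TT).Normal := by
  refine ⟨fun n hn x => ?_⟩
  have h1 : NN A TT ≤ (NN A TT).comap (MulAut.conj x).toMonoidHom := iSup₂_le fun g hg t ht =>
    (le_iSup₂_of_le (x • g) (D.inv x g hg) le_rfl : TT (x • g) ≤ NN A TT) (D.conjT x g hg t ht)
  exact h1 hn

theorem NC_eq (h : g ∈ Cp A YY K) : NC A TT YY g = NC A TT YY K := by rw [NC, NC, D.Cp_eq h]

theorem UC_eq (h : g ∈ Cp A YY K) : UC A YY g = UC A YY K := by rw [UC, UC, D.Cp_eq h]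

/-- `N_c ⊴ N` -/
theorem NN_norm_NC : NN A TT ≤ normalizer (NC A TT YY K : Set H) := by
  have key : ∀ n ∈ NN A TT, ∀ m ∈ NC A TT YY K, n * m * n⁻¹ ∈ NC A TT YY K := by
    intro n hn m hm
    have h1 : NC A TT YY K ≤ (NC A TT YY K).comap (MulAut.conj n).toMonoidHom := by
      refine iSup₂_le fun g hg t ht => ?_
      have h2 := D.NN_Cp (D.mem_A hg) hn
      rw [D.Cp_eq hg] at h2
      exact D.TT_le_NC h2 (D.conjT n g (D.mem_A hg) t ht)
    exact h1 hm
  intro n hn
  rw [mem_normalizer_iff]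
  refine fun m => ⟨key n hn m, fun h => ?_⟩
  have := key n⁻¹ (inv_mem hn) _ h
  have e : n⁻¹ * (n * m * n⁻¹) * n⁻¹⁻¹ = m := by group
  rwa [e] at this

end AxSys

theorem relIndex_sup_of_normalizes [Finite H] {S K : Subgroup H} (hK : S ≤ normalizer (K : Set H)) :
    S.relIndex K = S.relIndex (S ⊔ K) := by
  set J := S ⊔ K with hJ
  have hJN : J ≤ normalizer (K : Set H) := sup_le hK le_normalizer
  have : (K.subgroupOf J).Normal := normal_subgroupOf_of_le_normalizer hJN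
  have hSJ : S ≤ J := le_sup_left
  have hKJ : K ≤ J := le_sup_right
  have h1 : (K.subgroupOf J).relIndex ((S.subgroupOf J) ⊔ (K.subgroupOf J)) =
      (K.subgroupOf J).relIndex (S.subgroupOf J) := relIndex_sup_right _ _
  have h2 : (S.subgroupOf J) ⊔ (K.subgroupOf J) = ⊤ := by
    rw [← subgroupOf_sup hSJ hKJ, ← hJ, subgroupOf_self]
  rw [h2, relIndex_top_right, relIndex_subgroupOf hSJ] at h1
  have e1 : K.relIndex J = K.relIndex S := h1
  have c1 : Nat.card K * K.relIndex J = Nat.card J := by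
    rw [← relIndex_bot_left, ← relIndex_bot_left]
    exact relIndex_mul_relIndex _ _ _ bot_le hKJ
  have c2 : Nat.card S * S.relIndex J = Nat.card J := by
    rw [← relIndex_bot_left, ← relIndex_bot_left]
    exact relIndex_mul_relIndex _ _ _ bot_le hSJ
  have c3 : Nat.card (K ⊓ S : Subgroup H) * K.relIndex S = Nat.card S := by
    rw [← inf_relIndex_right K S, ← relIndex_bot_left, ← relIndex_bot_left]
    exact relIndex_mul_relIndex _ _ _ bot_le inf_le_right
  have c4 : Nat.card (K ⊓ S : Subgroup H) * S.relIndex K = Nat.card K := by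
    rw [← inf_relIndex_left K S, ← relIndex_bot_left, ← relIndex_bot_left]
    exact relIndex_mul_relIndex _ _ _ bot_le inf_le_left
  have hpos : 0 < Nat.card (K ⊓ S : Subgroup H) * K.relIndex S := by rw [c3]; exact Nat.card_pos
  refine Nat.eq_of_mul_eq_mul_left hpos ?_
  calc Nat.card (K ⊓ S : Subgroup H) * K.relIndex S * S.relIndex K
      = (Nat.card (K ⊓ S : Subgroup H) * S.relIndex K) * K.relIndex S := by ring
    _ = Nat.card J := by rw [c4, ← e1, c1]
    _ = _ := by rw [c3, c2]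

/-- The situation of a vector `z`: fixed by a Sylow 2-subgroup, `H = N C_H(z)`, not fixed by `N`. -/
structure Sit (A : Set (AddSubgroup M)) (TT : AddSubgroup M → Subgroup H) (YY : AddSubgroup M → AddSubgroup M)
    (z : M) : Prop extends AxSys A TT YY where
  syl : ∃ S : Sylow 2 H, ∀ s ∈ S, s • z = z
  gen : ∀ h : H, ∃ n ∈ NN A TT, (n⁻¹ * h) • z = z
  ne : ∃ g ∈ A, z ∉ g

namespace Sit

variable {A : Set (AddSubgroup M)} {TT : AddSubgroup M → Subgroup H} {YY : AddSubgroup M → AddSubgroup M}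
  {z : M} (D : Sit A TT YY z) {g g' K : AddSubgroup M}
include D

/-- **(F')** -/
theorem F' [Finite H] {n : H} (hn : n ∈ NN A TT) (h : ∀ g ∈ A, n • z + z ∈ g) : n • z = z := by
  obtain ⟨S, hS⟩ := D.syl
  -- `N₀`
  have hfix : ∀ {a : H}, a ∈ NN A TT → ∀ {u : M}, (∀ g ∈ A, u ∈ g) → a • u = u := fun ha _ hu =>
    D.fixed_iff.1 hu _ ha
  let N₀ : Subgroup H :=
    { carrier := {n | n ∈ NN A TT ∧ ∀ g ∈ A, n • z + z ∈ g}
      one_mem' := ⟨one_mem _, fun g _ => by rw [one_smul, D.char2]; exact zero_mem _⟩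
      mul_mem' := fun {a b} ha hb => ⟨mul_mem ha.1 hb.1, fun g hg => by
        have e : (a * b) • z + z = a • (b • z + z) + (a • z + z) := by
          rw [mul_smul, smul_add, add_assoc, ← add_assoc (a • z), D.char2, zero_add]
        rw [e, hfix ha.1 hb.2]
        exact add_mem (hb.2 g hg) (ha.2 g hg)⟩
      inv_mem' := fun {a} ha => ⟨inv_mem ha.1, fun g hg => by
        have e : a⁻¹ • z + z = a⁻¹ • (a • z + z) := by
          rw [smul_add, inv_smul_smul, add_comm]
        rw [e, hfix (inv_mem ha.1) ha.2]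
        exact ha.2 g hg⟩ }
  have hN₀ : ∀ {a : H}, a ∈ N₀ ↔ a ∈ NN A TT ∧ ∀ g ∈ A, a • z + z ∈ g := Iff.rfl
  let φ : N₀ →* Multiplicative M :=
    { toFun := fun a => Multiplicative.ofAdd ((a : H) • z + z)
      map_one' := by
        change Multiplicative.ofAdd ((1 : H) • z + z) = 1
        rw [one_smul, D.char2]
        rfl
      map_mul' := fun a b => by
        change Multiplicative.ofAdd (((a : H) * b) • z + z) = Multiplicative.ofAdd (((a : H) • z + z) + ((b : H) • z + z))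
        have e : ((a : H) * b) • z + z = (a : H) • ((b : H) • z + z) + ((a : H) • z + z) := by
          rw [mul_smul, smul_add, add_assoc, ← add_assoc ((a : H) • z), D.char2, zero_add]
        rw [e, hfix a.2.1 b.2.2, add_comm] }
  have hφ : ∀ a : N₀, φ a = 1 ↔ (a : H) • z = z := fun a => by
    constructor
    · intro h1
      have h2 : (a : H) • z + z = 0 := congrArg Multiplicative.toAdd h1
      have h3 := D.add_add_self ((a : H) • z) z
      rw [h2, zero_add] at h3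
      exact h3.symm
    · intro h1
      change Multiplicative.ofAdd ((a : H) • z + z) = 1
      rw [h1, D.char2]
      rfl
  -- the index is odd
  have hSn : (S : Subgroup H) ≤ normalizer (N₀ : Set H) := by
    have key : ∀ s ∈ S, ∀ a ∈ N₀, s * a * s⁻¹ ∈ N₀ := by
      intro s hs a ha
      have h1 : s⁻¹ • z = z := hS _ (inv_mem hs)
      refine hN₀.2 ⟨D.NN_normal.conj_mem a ha.1 s, fun g hg => ?_⟩
      have e : (s * a * s⁻¹) • z + z = s • (a • z + z) := by
        rw [mul_smul, mul_smul, h1, smul_add, hS s hs]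
      rw [e]
      have h2 := ha.2 (s⁻¹ • g) (D.inv _ g hg)
      rwa [mem_smul, inv_inv] at h2
    intro s hs
    rw [mem_normalizer_iff]
    refine fun a => ⟨key s hs a, fun h => ?_⟩
    have := key s⁻¹ (inv_mem hs) _ h
    have e : s⁻¹ * (s * a * s⁻¹) * s⁻¹⁻¹ = a := by group
    rwa [e] at this
  have hodd : ¬ 2 ∣ (S : Subgroup H).relIndex N₀ := by
    rw [relIndex_sup_of_normalizes hSn]
    have : Fact (Nat.Prime 2) := ⟨Nat.prime_two⟩
    intro h1
    exact S.not_dvd_index (h1.trans (relIndex_dvd_index_of_le le_sup_left))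
  have hker : φ.ker.index ∣ (S : Subgroup H).relIndex N₀ := by
    rw [relIndex]
    refine index_dvd_of_le fun a ha => ?_
    rw [MonoidHom.mem_ker, hφ]
    exact hS _ (mem_subgroupOf.1 ha)
  have : Fact (Nat.Prime 2) := ⟨Nat.prime_two⟩
  have hp : IsPGroup 2 φ.range := by
    intro x
    refine ⟨1, ?_⟩
    obtain ⟨_, a, rfl⟩ := x
    apply Subtype.ext
    change (φ a) ^ (2 ^ 1) = 1
    rw [pow_one, pow_two]
    exact congrArg Multiplicative.ofAdd (D.char2 ((a : H) • z + z))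
  have hfin : Finite φ.range := Set.finite_range φ |>.to_subtype
  obtain ⟨k, hk⟩ := IsPGroup.iff_card.1 hp
  rw [index_ker, hk] at hker
  have hk0 : k = 0 := by
    by_contra hk0
    exact hodd ((dvd_pow_self 2 hk0).trans hker)
  rw [hk0, pow_zero] at hk
  have h1 : φ ⟨n, hN₀.2 ⟨hn, h⟩⟩ = 1 := by
    have h2 : φ.range = ⊥ := Subgroup.card_eq_one.1 hk
    have h3 : φ ⟨n, hN₀.2 ⟨hn, h⟩⟩ ∈ φ.range := ⟨_, rfl⟩
    rw [h2] at h3
    exact mem_bot.1 h3
  exact (hφ _).1 h1

/-- `z ∉ I_c` -/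
theorem not_mem (hK : K ∈ A) : ∃ g ∈ Cp A YY K, z ∉ g := by
  by_contra hcon
  push Not at hcon
  obtain ⟨g₁, hg₁, hz⟩ := D.ne
  obtain ⟨h, rfl⟩ := D.trans K hK g₁ hg₁
  obtain ⟨n, hn, hz'⟩ := D.gen h
  apply hz
  obtain ⟨s, hs⟩ : ∃ s, s = n⁻¹ * h := ⟨_, rfl⟩
  rw [← hs] at hz'
  have e : h = n * s := by rw [hs, mul_inv_cancel_left]
  have h1 : h • K ∈ Cp A YY (s • K) := by
    rw [e, mul_smul]
    exact D.NN_Cp (D.inv s K hK) hn
  rw [D.smul_Cp s] at h1
  have h2 := hcon _ h1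
  rw [mem_smul, inv_inv, hz'] at h2
  exact h2

theorem mem_of_mem [Finite H] (hK : K ∈ A) {y : M} (hy : y ∈ YY K) (h : ∀ k ∈ Cp A YY K, y ∈ k) : y = 0 := by
  obtain ⟨g₀, hg₀, hz⟩ := D.not_mem hK
  obtain ⟨n, hn, hnz⟩ := D.exists_not_mem hK hg₀ hz
  have hall : ∀ g ∈ A, y ∈ g := fun g hg => by
    by_cases h1 : g ∈ Cp A YY K
    · exact h g h1
    · exact D.le_of_not_mem hK hg h1 hy
  obtain ⟨t, ht, hty⟩ := D.full K hK _ hnz y hy
  have hnN := D.NC_le_NN hn
  have htN : t ∈ NN A TT := D.NC_le_NN (D.TT_le_NC (AxSys.self_mem hK) ht)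
  have h1 : (n⁻¹ * t * n) • z = z + y := by
    rw [mul_smul, mul_smul, hty, smul_add, inv_smul_smul, D.fixed_iff.1 hall n⁻¹ (inv_mem hnN)]
  have h2 : (n⁻¹ * t * n) • z + z = y := by
    rw [h1, add_comm z y, D.add_add_self]
  have h3 := D.F' (mul_mem (mul_mem (inv_mem hnN) htN) hnN) (fun g hg => by rw [h2]; exact hall g hg)
  rw [h3, D.char2] at h2
  exact h2.symm

theorem exists_of_ne [Finite H] (hg : g ∈ Cp A YY K) {y : M} (hy : y ∈ YY g) (hy0 : y ≠ 0) :
    ∃ k ∈ Cp A YY K, y ∉ k := by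
  by_contra hcon
  push Not at hcon
  exact hy0 (D.mem_of_mem (D.mem_A hg) hy (by rw [D.Cp_eq hg]; exact hcon))

/-- the `N_c`-orbit of `z` -/
def Orb (_ : Sit A TT YY z) (K : AddSubgroup M) (m : M) : Prop := ∃ n ∈ NC A TT YY K, m = n • z

theorem orb_self : D.Orb K z := ⟨1, one_mem _, (one_smul _ _).symm⟩

theorem orb_smul {m : M} (h : D.Orb K m) {n : H} (hn : n ∈ NC A TT YY K) : D.Orb K (n • m) := by
  obtain ⟨a, ha, rfl⟩ := h
  exact ⟨n * a, mul_mem hn ha, (mul_smul _ _ _).symm⟩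

theorem orb_eq (hg : g ∈ Cp A YY K) {m : M} : D.Orb g m ↔ D.Orb K m := by
  rw [Orb, Orb, D.NC_eq hg]

theorem orb_full {m y : M} (h : D.Orb K m) (hg : g ∈ Cp A YY K) (hm : m ∉ g) (hy : y ∈ YY g) : D.Orb K (m + y) := by
  obtain ⟨t, ht, hty⟩ := D.full g (D.mem_A hg) m hm y hy
  rw [← hty]
  exact D.orb_smul h (D.TT_le_NC hg ht)

/-- an element of the orbit is not in `I_c` -/
theorem orb_not_mem (hK : K ∈ A) {m : M} (h : D.Orb K m) : ∃ g ∈ Cp A YY K, m ∉ g := by
  by_contra hcon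
  push Not at hcon
  obtain ⟨n, hn, rfl⟩ := h
  have h1 := D.NC_fix hcon (inv_mem hn)
  rw [inv_smul_smul] at h1
  obtain ⟨g, hg, hz⟩ := D.not_mem hK
  apply hz
  rw [h1]
  exact hcon g hg

/-- (P), contraposed -/
theorem exists_adj (hK : K ∈ A) {y : M} (hy : y ∈ K) (h : ∃ g ∈ Cp A YY K, y ∉ g) :
    ∃ g ∈ A, ¬ YY K ≤ g ∧ y ∉ g := by
  by_contra hcon
  push Not at hcon
  obtain ⟨g, hg, hyg⟩ := h
  exact hyg (D.P hK hy (fun g hg hadj => hcon g hg hadj) g hg)

/-- (E1) -/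
theorem E1 (hK : K ∈ A) {m y : M} (h : D.Orb K m) (hmK : m ∈ K) (hy : y ∈ YY K) (hg : g ∈ A) (hadj : ¬ YY K ≤ g)
    (h1 : m ∉ g) (h2 : m + y ∉ g) : D.Orb K (m + y) := by
  have hgc : g ∈ Cp A YY K := AxSys.adj_mem hK hg hadj
  obtain ⟨r, hr, hrK⟩ := SetLike.not_le_iff_exists.1 (D.symm _ hK _ hg hadj)
  have h3 := D.orb_full h hgc h1 hr
  have h4 : m + r ∉ K := fun h4 => hrK (by
    have := K.add_mem h4 hmK
    rwa [add_comm m r, D.add_add_self] at this)
  have h5 := D.orb_full h3 (AxSys.self_mem hK) h4 hy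
  have h6 : m + r + y ∉ g := fun h6 => h2 (by
    have := g.add_mem h6 (D.le g hg hr)
    rwa [add_right_comm m r y, D.add_add_self] at this)
  have h7 := D.orb_full h5 hgc h6 hr
  rwa [add_right_comm m r y, D.add_add_self] at h7

/-- **(M)** -/
theorem M_self [Finite H] (hK : K ∈ A) {m y : M} (h : D.Orb K m) (hy : y ∈ YY K)
    (hne : ∃ g ∈ Cp A YY K, m + y ∉ g) : D.Orb K (m + y) := by
  by_cases hmK : m ∈ K
  swap
  · exact D.orb_full h (AxSys.self_mem hK) hmK hy
  by_contra hcon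
  have hyK : y ∈ K := D.le K hK hy
  have hmyK : m + y ∈ K := K.add_mem hmK hyK
  have i1 : ∀ g ∈ A, ¬ YY K ≤ g → m ∉ g → m + y ∈ g := fun g hg hadj hmg => by
    by_contra h1
    exact hcon (D.E1 hK h hmK hy hg hadj hmg h1)
  have i2 : ∀ g ∈ A, ¬ YY K ≤ g → m + y ∉ g → m ∈ g := fun g hg hadj hmg => by
    by_contra h1
    exact hmg (i1 g hg hadj h1)
  obtain ⟨g, hg, hadj, hmg⟩ := D.exists_adj hK hmK (D.orb_not_mem hK h)
  obtain ⟨g', hg', hadj', hmg'⟩ := D.exists_adj hK hmyK hne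
  -- (iii)
  have i3 : ∀ g ∈ A, ¬ YY K ≤ g → m ∉ g → ∀ g' ∈ A, ¬ YY K ≤ g' → m + y ∉ g' → ∀ r ∈ YY K,
      r + y ∈ g ∨ r ∈ g' := by
    intro g hg hadj hmg g' hg' hadj' hmg' r hr
    by_contra h1
    push Not at h1
    have h2 : m + r ∉ g := fun h2 => h1.1 (by
      have := g.add_mem h2 (i1 g hg hadj hmg)
      have e : m + r + (m + y) = r + y := by
        rw [add_add_add_comm, D.char2, zero_add]
      rwa [e] at this)
    have h3 := D.E1 hK h hmK hr hg hadj hmg h2
    have h4 : m + r ∉ g' := fun h4 => h1.2 (by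
      have := g'.add_mem h4 (i2 g' hg' hadj' hmg')
      rwa [add_comm m r, D.add_add_self] at this)
    have e : m + r + (r + y) = m + y := by rw [← add_assoc, D.add_add_self]
    have h5 := D.E1 hK h3 (K.add_mem hmK (D.le K hK hr)) (add_mem hr hy) hg' hadj' h4 (by rw [e]; exact hmg')
    rw [e] at h5
    exact hcon h5
  have ynot : ∀ g ∈ A, ¬ YY K ≤ g → m ∉ g → y ∉ g := fun g hg hadj hmg h1 => hmg (by
    have := g.add_mem (i1 g hg hadj hmg) h1
    rwa [D.add_add_self] at this)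
  have ynot' : ∀ g ∈ A, ¬ YY K ≤ g → m + y ∉ g → y ∉ g := fun g hg hadj hmg h1 =>
    hmg (g.add_mem (i2 g hg hadj hmg) h1)
  -- `r ∈ g ↔ r ∈ g'`
  have i4 : ∀ g ∈ A, ¬ YY K ≤ g → m ∉ g → ∀ g' ∈ A, ¬ YY K ≤ g' → m + y ∉ g' → ∀ r ∈ YY K, r ∈ g ↔ r ∈ g' := by
    intro g hg hadj hmg g' hg' hadj' hmg' r hr
    constructor
    · intro h1
      rcases i3 g hg hadj hmg g' hg' hadj' hmg' r hr with h2 | h2
      · exact absurd (by
          have := g.add_mem h2 h1
          rwa [add_comm r y, D.add_add_self] at this) (ynot g hg hadj hmg)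
      · exact h2
    · intro h1
      rcases i3 g hg hadj hmg g' hg' hadj' hmg' (r + y) (add_mem hr hy) with h2 | h2
      · rwa [D.add_add_self] at h2
      · exact absurd (by
          have := g'.add_mem h2 h1
          rwa [add_comm r y, D.add_add_self] at this) (ynot' g' hg' hadj' hmg')
  -- `r₀`
  obtain ⟨r₀, hr₀, hr₀0, hr₀g⟩ : ∃ r₀ ∈ YY K, r₀ ≠ 0 ∧ r₀ ∈ g := by
    obtain ⟨s, hs, hs0, hsy⟩ := D.big K hK y
    rcases i3 g hg hadj hmg g' hg' hadj' hmg' s hs with h1 | h1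
    · refine ⟨s + y, add_mem hs hy, fun h2 => hsy ?_, h1⟩
      have h3 := D.add_add_self s y
      rw [h2, zero_add] at h3
      exact h3.symm
    · exact ⟨s, hs, hs0, (i4 g hg hadj hmg g' hg' hadj' hmg' s hs).2 h1⟩
  have hr₀g' := (i4 g hg hadj hmg g' hg' hadj' hmg' r₀ hr₀).1 hr₀g
  have hr₀K : r₀ ∈ K := D.le K hK hr₀
  obtain ⟨g₀, hg₀, hadj₀, hr₀n⟩ := D.exists_adj hK hr₀K (D.exists_of_ne (AxSys.self_mem hK) hr₀ hr₀0)
  have hm₀ : m ∈ g₀ := by
    by_contra h1
    exact hr₀n ((i4 g₀ hg₀ hadj₀ h1 g' hg' hadj' hmg' r₀ hr₀).2 hr₀g')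
  have hmy₀ : m + y ∈ g₀ := by
    by_contra h1
    exact hr₀n ((i4 g hg hadj hmg g₀ hg₀ hadj₀ h1 r₀ hr₀).1 hr₀g)
  -- `m → m + r₀ → m + r₀ + y → m + y`
  have h1 : D.Orb K (m + r₀) := D.E1 hK h hmK hr₀ hg hadj hmg fun h1 => hmg (by
    have := g.add_mem h1 hr₀g
    rwa [D.add_add_self] at this)
  have h2 : D.Orb K (m + r₀ + y) := by
    refine D.E1 hK h1 (K.add_mem hmK hr₀K) hy hg₀ hadj₀ (fun h1 => hr₀n ?_) fun h1 => hr₀n ?_
    · have := g₀.add_mem h1 hm₀
      rwa [add_comm m r₀, D.add_add_self] at this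
    · have := g₀.add_mem h1 hmy₀
      have e : m + r₀ + y + (m + y) = r₀ := by
        rw [add_add_add_comm, D.char2, add_zero, add_comm m r₀, D.add_add_self]
      rwa [e] at this
  have e : m + r₀ + y + r₀ = m + y := by
    rw [add_right_comm m r₀ y, D.add_add_self]
  have h3 : D.Orb K (m + r₀ + y + r₀) := by
    refine D.E1 hK h2 (K.add_mem (K.add_mem hmK hr₀K) hyK) hr₀ hg' hadj' (fun h1 => hmg' ?_) (by rw [e]; exact hmg')
    have := g'.add_mem h1 hr₀g'
    rwa [e] at this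
  rw [e] at h3
  exact hcon h3

theorem M_comp [Finite H] {m y : M} (h : D.Orb K m) (hg : g ∈ Cp A YY K) (hy : y ∈ YY g)
    (hne : ∃ k ∈ Cp A YY K, m + y ∉ k) : D.Orb K (m + y) := by
  rw [← D.orb_eq hg] at h ⊢
  exact D.M_self (D.mem_A hg) h hy (by rw [D.Cp_eq hg]; exact hne)

theorem chain [Finite H] (n : ℕ) : ∀ l : List M, l.length = n → (∀ w ∈ l, ∃ g ∈ Cp A YY K, w ∈ YY g) →
    ∀ m, D.Orb K m → (∃ g ∈ Cp A YY K, m + l.sum ∉ g) → D.Orb K (m + l.sum) := by
  induction n using Nat.strong_induction_on with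
  | _ n ih =>
    intro l hl hlY m hm hne
    match l, hl, hlY, hne with
    | [], _, _, _ =>
      rw [List.sum_nil, add_zero]
      exact hm
    | [y], _, hlY, hne =>
      rw [List.sum_singleton] at hne ⊢
      obtain ⟨g, hg, hy⟩ := hlY y (List.mem_singleton_self y)
      exact D.M_comp hm hg hy hne
    | y₁ :: y₂ :: l', hl, hlY, hne =>
      obtain ⟨g₁, hg₁, hy₁⟩ := hlY y₁ (by simp)
      obtain ⟨g₂, hg₂, hy₂⟩ := hlY y₂ (by simp)
      have hl' : ∀ w ∈ l', ∃ g ∈ Cp A YY K, w ∈ YY g := fun w hw => hlY w (by simp [hw])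
      simp only [List.length_cons] at hl
      simp only [List.sum_cons] at hne ⊢
      by_cases h1 : ∃ g ∈ Cp A YY K, m + y₁ ∉ g
      · have h2 := D.M_comp hm hg₁ hy₁ h1
        have h3 := ih (l'.length + 1) (by omega) (y₂ :: l') rfl (fun w hw => hlY w (by simp at hw ⊢; tauto)) _ h2
        simp only [List.sum_cons] at h3
        rw [add_assoc] at h3
        exact h3 hne
      by_cases h1' : ∃ g ∈ Cp A YY K, m + y₂ ∉ g
      · have h2 := D.M_comp hm hg₂ hy₂ h1'
        have h3 := ih (l'.length + 1) (by omega) (y₁ :: l') rfl (fun w hw => hlY w (by simp at hw ⊢; tauto)) _ h2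
        simp only [List.sum_cons] at h3
        have e : m + y₂ + (y₁ + l'.sum) = m + (y₁ + (y₂ + l'.sum)) := by abel
        rw [e] at h3
        exact h3 hne
      push Not at h1 h1'
      obtain ⟨s, hs, hs0, hsy⟩ := D.big g₁ (D.mem_A hg₁) y₁
      have hsy1 : s + y₁ ≠ 0 := fun h2 => hsy (by
        have h3 := D.add_add_self s y₁
        rw [h2, zero_add] at h3
        exact h3.symm)
      obtain ⟨k, hk, hks⟩ := D.exists_of_ne hg₁ (add_mem hs hy₁) hsy1
      have h2 : D.Orb K (m + s) := D.M_comp hm hg₁ hs ⟨k, hk, fun h3 => hks (by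
        have h4 := k.add_mem h3 (h1 k hk)
        have e : m + s + (m + y₁) = s + y₁ := by rw [add_add_add_comm, D.char2, zero_add]
        rwa [e] at h4)⟩
      obtain ⟨k', hk', hks'⟩ := D.exists_of_ne hg₁ hs hs0
      have h3 : D.Orb K (m + s + y₂) := D.M_comp h2 hg₂ hy₂ ⟨k', hk', fun h3 => hks' (by
        have h4 := k'.add_mem h3 (h1' k' hk')
        have e : m + s + y₂ + (m + y₂) = s := by
          rw [add_add_add_comm, D.char2, add_zero, add_comm m s, D.add_add_self]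
        rwa [e] at h4)⟩
      have h4 := ih (l'.length + 1) (by omega) ((s + y₁) :: l') rfl (fun w hw => by
        simp only [List.mem_cons] at hw
        rcases hw with rfl | hw
        · exact ⟨g₁, hg₁, add_mem hs hy₁⟩
        · exact hl' w hw) _ h3
      simp only [List.sum_cons] at h4
      have e : m + s + y₂ + (s + y₁ + l'.sum) = m + (y₁ + (y₂ + l'.sum)) := by
        have e1 : m + s + y₂ + (s + y₁ + l'.sum) = (s + s) + (m + (y₁ + (y₂ + l'.sum))) := by abel
        rw [e1, D.char2, zero_add]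
      rw [e] at h4
      exact h4 hne

theorem exists_list {u : M} (hu : u ∈ UC A YY K) : ∃ l : List M, (∀ w ∈ l, ∃ g ∈ Cp A YY K, w ∈ YY g) ∧
    l.sum = u := by
  let X : AddSubgroup M :=
    { carrier := {u | ∃ l : List M, (∀ w ∈ l, ∃ g ∈ Cp A YY K, w ∈ YY g) ∧ l.sum = u}
      zero_mem' := ⟨[], by simp, List.sum_nil⟩
      add_mem' := by
        rintro a b ⟨l, hl, rfl⟩ ⟨l', hl', rfl⟩
        refine ⟨l ++ l', fun w hw => ?_, List.sum_append⟩
        rcases List.mem_append.1 hw with h | h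
        · exact hl w h
        · exact hl' w h
      neg_mem' := by
        rintro a ⟨l, hl, rfl⟩
        exact ⟨l, hl, (D.neg_eq _).symm⟩ }
  exact (iSup₂_le fun g hg y hy => ⟨[y], fun w hw => ⟨g, hg, by rwa [List.mem_singleton.1 hw]⟩, List.sum_singleton⟩ :
    UC A YY K ≤ X) hu

/-- **the `N_c`-orbit of `z` is `(z + U_c) - I_c`** -/
theorem orbit [Finite H] {u : M} (hu : u ∈ UC A YY K) (h : ∃ g ∈ Cp A YY K, z + u ∉ g) :
    ∃ n ∈ NC A TT YY K, n • z = z + u := by
  obtain ⟨l, hl, rfl⟩ := D.exists_list hu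
  obtain ⟨n, hn, h1⟩ := D.chain _ l rfl hl z D.orb_self h
  exact ⟨n, hn, h1.symm⟩

/-- **`U_c ∩ I_c = 0`** -/
theorem inf [Finite H] (hK : K ∈ A) {u : M} (hu : u ∈ UC A YY K) (h : ∀ g ∈ Cp A YY K, u ∈ g) : u = 0 := by
  obtain ⟨g₀, hg₀, hz⟩ := D.not_mem hK
  obtain ⟨n, hn, h1⟩ := D.orbit hu ⟨g₀, hg₀, fun h1 => hz (by
    have := g₀.add_mem h1 (h g₀ hg₀)
    rwa [D.add_add_self] at this)⟩
  have h2 : n • z + z = u := by rw [h1, add_comm z u, D.add_add_self]
  have h3 := D.F' (D.NC_le_NN hn) (fun g hg => by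
    rw [h2]
    by_cases h4 : g ∈ Cp A YY K
    · exact h g h4
    · exact D.UC_le hg h4 hu)
  rw [h3, D.char2] at h2
  exact h2.symm

/-- the `N_c`-orbit has odd length -/
theorem odd_relIndex [Finite H] : ¬ 2 ∣ (MulAction.stabilizer H z).relIndex (NC A TT YY K) := by
  obtain ⟨S, hS⟩ := D.syl
  have hN := D.NN_normal
  set T : Subgroup H := (S : Subgroup H) ⊓ NN A TT with hT
  have hTX : T ≤ MulAction.stabilizer H z := fun s hs => hS s (mem_inf.1 hs).1
  have h1 : (MulAction.stabilizer H z).relIndex (NC A TT YY K) ∣ T.relIndex (NC A TT YY K) := by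
    rw [relIndex, relIndex]
    exact index_dvd_of_le (comap_mono hTX)
  have h2 : T.relIndex (NC A TT YY K) ∣ T.relIndex (NN A TT) := by
    rw [relIndex_sup_of_normalizes (inf_le_right.trans D.NN_norm_NC)]
    exact Dvd.intro _ (relIndex_mul_relIndex _ _ _ le_sup_left (sup_le inf_le_right D.NC_le_NN))
  have h3 : T.relIndex (NN A TT) = (S : Subgroup H).relIndex (NN A TT) := by
    rw [hT, inf_relIndex_right]
  have h4 : ¬ 2 ∣ (S : Subgroup H).relIndex (NN A TT) := by
    rw [relIndex_sup_of_normalizes (by rw [normalizer_eq_top]; exact le_top)]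
    have : Fact (Nat.Prime 2) := ⟨Nat.prime_two⟩
    intro h1
    exact S.not_dvd_index (h1.trans (relIndex_dvd_index_of_le le_sup_left))
  intro h5
  apply h4
  rw [← h3]
  exact (h5.trans h1).trans h2

/-- **`z ∈ U_c + I_c`** -/
theorem mem [Finite H] [Finite M] (hK : K ∈ A) : ∃ u ∈ UC A YY K, ∀ g ∈ Cp A YY K, z + u ∈ g := by
  by_contra hcon
  push Not at hcon
  -- the orbit is `z + U_c`
  have h1 : (MulAction.stabilizer H z).relIndex (NC A TT YY K) = Nat.card (UC A YY K) := by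
    have e1 : (MulAction.stabilizer H z).relIndex (NC A TT YY K) =
        (MulAction.stabilizer (NC A TT YY K) z).index := by
      rw [relIndex]
      congr 1
    rw [e1, MulAction.index_stabilizer, ← Nat.card_coe_set_eq]
    symm
    refine Nat.card_congr (Equiv.ofBijective
      (fun u : ↥(UC A YY K) => (⟨z + u, ?_⟩ : MulAction.orbit (NC A TT YY K) z)) ⟨?_, ?_⟩)
    · obtain ⟨n, hn, h2⟩ := D.orbit u.2 (hcon _ u.2)
      exact ⟨⟨n, hn⟩, h2⟩
    · intro u v h
      exact Subtype.ext (add_left_cancel (congrArg Subtype.val h))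
    · rintro ⟨_, ⟨n, rfl⟩⟩
      refine ⟨⟨(n : H) • z + z, D.NC_quad n.2 z⟩, Subtype.ext ?_⟩
      change z + ((n : H) • z + z) = (n : H) • z
      rw [add_comm, D.add_add_self]
  have h2 : 2 ∣ Nat.card (UC A YY K) := by
    obtain ⟨s, hs, hs0, -⟩ := D.big K hK 0
    have hsU : s ∈ UC A YY K := AxSys.YY_le_UC (AxSys.self_mem hK) hs
    have h3 : addOrderOf (⟨s, hsU⟩ : ↥(UC A YY K)) = 2 := by
      refine addOrderOf_eq_prime ?_ fun h => hs0 (congrArg Subtype.val h)
      rw [two_nsmul]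
      exact Subtype.ext (D.char2 s)
    rw [← h3]
    exact addOrderOf_dvd_natCard _
  rw [← h1] at h2
  exact D.odd_relIndex h2

/-- **`N_c` is transitive on `U_c - {0}`** -/
theorem transU [Finite H] [Finite M] (hK : K ∈ A) {u v : M} (hu : u ∈ UC A YY K) (hu0 : u ≠ 0)
    (hv : v ∈ UC A YY K) (hv0 : v ≠ 0) : ∃ n ∈ NC A TT YY K, n • u = v := by
  obtain ⟨w, hw, hi⟩ := D.mem hK
  have key : ∀ u ∈ UC A YY K, u ≠ 0 → ∃ n ∈ NC A TT YY K, n • z = z + w + u := by
    intro u hu hu0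
    have h1 : ∃ g ∈ Cp A YY K, z + (w + u) ∉ g := by
      by_contra hcon
      push Not at hcon
      refine hu0 (D.inf hK hu fun g hg => ?_)
      have h2 := g.add_mem (hcon g hg) (hi g hg)
      have e : z + (w + u) + (z + w) = u := by
        rw [← add_assoc z w u, add_comm (z + w) u, D.add_add_self]
      rwa [e] at h2
    obtain ⟨n, hn, h2⟩ := D.orbit (add_mem hw hu) h1
    exact ⟨n, hn, by rw [h2, add_assoc]⟩
  obtain ⟨a, ha, h1⟩ := key u hu hu0
  obtain ⟨b, hb, h2⟩ := key v hv hv0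
  have hn : b * a⁻¹ ∈ NC A TT YY K := mul_mem hb (inv_mem ha)
  refine ⟨b * a⁻¹, hn, ?_⟩
  have h3 : (b * a⁻¹) • (z + w + u) = z + w + v := by
    rw [← h1, mul_smul, inv_smul_smul, h2]
  rw [smul_add, D.NC_fix hi hn] at h3
  exact add_left_cancel h3

/-- **`z ∈ [M, N] + C_M(N)`** -/
theorem mem_all [Finite H] [Finite M] : ∃ w ∈ ⨆ g ∈ A, YY g, ∀ g ∈ A, z + w ∈ g := by
  classical
  have key : ∀ s : Finset (AddSubgroup M), (∀ k ∈ s, k ∈ A) →
      ∃ w ∈ ⨆ k ∈ s, UC A YY k, ∀ k ∈ s, ∀ g ∈ Cp A YY k, z + w ∈ g := by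
    intro s
    induction s using Finset.induction_on with
    | empty => exact fun _ => ⟨0, zero_mem _, by simp⟩
    | insert K s hKs ih =>
      intro hs
      obtain ⟨w, hw, h1⟩ := ih fun k hk => hs k (Finset.mem_insert_of_mem hk)
      have hK : K ∈ A := hs K (Finset.mem_insert_self _ _)
      have hle : (⨆ k ∈ s, UC A YY k) ≤ ⨆ k ∈ insert K s, UC A YY k :=
        iSup₂_le fun k hk => le_iSup₂_of_le k (Finset.mem_insert_of_mem hk) le_rfl
      by_cases hc : ∃ k ∈ s, K ∈ Cp A YY k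
      · obtain ⟨k, hk, hKk⟩ := hc
        refine ⟨w, hle hw, fun k' hk' g hg => ?_⟩
        rcases Finset.mem_insert.1 hk' with rfl | hk'
        · rw [D.Cp_eq hKk] at hg
          exact h1 k hk g hg
        · exact h1 k' hk' g hg
      · push Not at hc
        obtain ⟨u, hu, h2⟩ := D.mem hK
        refine ⟨w + u, add_mem (hle hw) ((le_iSup₂_of_le K (Finset.mem_insert_self _ _) le_rfl :
          UC A YY K ≤ ⨆ k ∈ insert K s, UC A YY k) hu), fun k' hk' g hg => ?_⟩
        rcases Finset.mem_insert.1 hk' with rfl | hk'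
        · have h3 : (⨆ k ∈ s, UC A YY k) ≤ g := iSup₂_le fun k hk => by
            refine D.UC_le (D.mem_A hg) fun h4 => hc k hk ?_
            rw [← D.Cp_eq h4, D.Cp_eq hg]
            exact AxSys.self_mem hK
          have h5 := g.add_mem (h2 g hg) (h3 hw)
          have e : z + u + w = z + (w + u) := by abel
          rwa [e] at h5
        · have h3 : UC A YY K ≤ g := by
            refine D.UC_le (D.mem_A hg) fun h4 => hc k' hk' ?_
            rw [← D.Cp_eq hg, D.Cp_eq h4]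
            exact AxSys.self_mem hK
          have h5 := g.add_mem (h1 k' hk' g hg) (h3 hu)
          have e : z + w + u = z + (w + u) := by abel
          rwa [e] at h5
  have hfin : A.Finite := Set.toFinite A
  obtain ⟨w, hw, h1⟩ := key hfin.toFinset fun k hk => hfin.mem_toFinset.1 hk
  refine ⟨w, ?_, fun g hg => h1 g (hfin.mem_toFinset.2 hg) g (AxSys.self_mem hg)⟩
  have h2 : (⨆ k ∈ hfin.toFinset, UC A YY k) ≤ ⨆ g ∈ A, YY g := iSup₂_le fun k _ => iSup₂_le fun g hg =>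
    le_iSup₂_of_le g (D.mem_A hg) le_rfl
  exact h2 hw

end Sit

end Cfsg.Agent.Omega.NOThreeL.RBig.Trans
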